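import Cfsg.Agent.Lib.Block.PrincipalColumn
import Cfsg.Agent.Lib.Block.RealOddCentralizer
import Cfsg.Agent.Lib.Block.SecondMain
import Cfsg.Agent.Lib.Block.SuzukiIdentity

/-!
# Characters fixed by the Galois automorphism inverting odd roots of unity

Pairs of moved characters cancel modulo 2.  A fixed character of odd degree lies in the principal 2-block; the
principal block has a second fixed character; a real element with odd centralizer gives a fixed character of
even degree.
-/

set_option autoImplicit false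
set_option linter.style.haveILetI false

namespace Cfsg.Agent.Block.SigmaFixed

open scoped ComplexConjugate
open Cfsg Cfsg.Agent.Block

universe u v

/-- Divisible by 2 among the algebraic integers. -/
def EvInt (x : ℂ) : Prop := IsIntegral ℤ (x / 2)

theorem isIntegral_natCast (n : ℕ) : IsIntegral ℤ (n : ℂ) := by
  exact_mod_cast isIntegral_algebraMap (R := ℤ) (A := ℂ) (x := (n : ℤ))

theorem evInt_zero : EvInt 0 := by
  rw [EvInt, zero_div]; exact isIntegral_zero

theorem EvInt.add {x y : ℂ} (hx : EvInt x) (hy : EvInt y) : EvInt (x + y) := by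
  rw [EvInt, add_div]; exact IsIntegral.add hx hy

theorem EvInt.sub {x y : ℂ} (hx : EvInt x) (hy : EvInt y) : EvInt (x - y) := by
  rw [EvInt, sub_div]; exact IsIntegral.sub hx hy

theorem EvInt.neg {x : ℂ} (hx : EvInt x) : EvInt (-x) := by
  rw [EvInt, neg_div]; exact IsIntegral.neg hx

theorem EvInt.mul {x y : ℂ} (hx : EvInt x) (hy : IsIntegral ℤ y) : EvInt (x * y) := by
  rw [EvInt, show x * y / 2 = x / 2 * y by ring]; exact IsIntegral.mul hx hy

theorem evInt_two_mul {x : ℂ} (hx : IsIntegral ℤ x) : EvInt (2 * x) := by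
  rw [EvInt, mul_div_cancel_left₀ x two_ne_zero]; exact hx

theorem not_evInt_of_odd {n : ℕ} (h : Odd n) : ¬ EvInt (n : ℂ) := fun he => by
  have h2 : IsIntegral ℤ ((n : ℂ) / ((2 : ℕ) : ℂ)) := by exact_mod_cast he
  exact Nat.not_even_iff_odd.2 h
    (even_iff_two_dvd.2 (Cfsg.Agent.Char.nat_dvd_of_isIntegral_div two_ne_zero h2))

theorem evInt_sum {ι : Type*} (s : Finset ι) (f : ι → ℂ) (h : ∀ i ∈ s, EvInt (f i)) :
    EvInt (∑ i ∈ s, f i) := by
  classical
  induction s using Finset.induction with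
  | empty => exact evInt_zero
  | insert a s ha ih =>
    rw [Finset.sum_insert ha]
    exact (h a (Finset.mem_insert_self a s)).add (ih fun i hi => h i (Finset.mem_insert_of_mem hi))

/-- Modulo 2 a sum reduces to the fixed points of an involution leaving the summand unchanged. -/
theorem sum_sub_fixed {ι : Type v} [DecidableEq ι] (π : ι → ι) (F : ι → ℂ) (s : Finset ι)
    (hπ : ∀ i ∈ s, π i ∈ s) (hinv : ∀ i ∈ s, π (π i) = i) (hF : ∀ i ∈ s, IsIntegral ℤ (F i))
    (hFπ : ∀ i ∈ s, F (π i) = F i) :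
    EvInt (∑ i ∈ s, F i - ∑ i ∈ s.filter (fun i => π i = i), F i) := by
  induction s using Finset.strongInductionOn with
  | _ s ih =>
    by_cases hall : ∀ i ∈ s, π i = i
    · rw [Finset.filter_true_of_mem hall, sub_self]
      exact evInt_zero
    · push Not at hall
      obtain ⟨i, hi, hne⟩ := hall
      have hπi : π i ∈ s.erase i := Finset.mem_erase.2 ⟨hne, hπ i hi⟩
      set t := (s.erase i).erase (π i) with ht
      have hsub : t ⊂ s :=
        Finset.ssubset_of_subset_of_ssubset (Finset.erase_subset _ _) (Finset.erase_ssubset hi)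
      have hmem : ∀ j ∈ t, j ∈ s ∧ j ≠ i ∧ j ≠ π i := fun j hj => by
        simp only [ht, Finset.mem_erase] at hj
        exact ⟨hj.2.2, hj.2.1, hj.1⟩
      have h := ih t hsub (fun j hj => by
          obtain ⟨hjs, hji, hjπ⟩ := hmem j hj
          simp only [ht, Finset.mem_erase]
          refine ⟨fun e => hji ?_, fun e => hjπ ?_, hπ j hjs⟩
          · rw [← hinv j hjs, e, hinv i hi]
          · rw [← hinv j hjs, e])
        (fun j hj => hinv j (hmem j hj).1) (fun j hj => hF j (hmem j hj).1)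
        fun j hj => hFπ j (hmem j hj).1
      have h1 : ∑ j ∈ s, F j = 2 * F i + ∑ j ∈ t, F j := by
        rw [ht, ← Finset.add_sum_erase s F hi, ← Finset.add_sum_erase (s.erase i) F hπi, hFπ i hi]
        ring
      have h2 : s.filter (fun j => π j = j) = t.filter (fun j => π j = j) := by
        ext j
        simp only [Finset.mem_filter, ht, Finset.mem_erase]
        refine ⟨fun ⟨hj, hf⟩ => ⟨⟨fun e => hne ?_, fun e => hne ?_, hj⟩, hf⟩, fun ⟨⟨_, _, hj⟩, hf⟩ => ⟨hj, hf⟩⟩
        · rw [e, hinv i hi] at hf; exact hf.symm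
        · exact e ▸ hf
      rw [h1, h2, add_sub_assoc]
      exact (evInt_two_mul (hF i hi)).add h

/-- The square of a sum is the sum of the squares modulo 2. -/
theorem sq_sum {ι : Type*} (s : Finset ι) (x : ι → ℂ) (hx : ∀ i ∈ s, IsIntegral ℤ (x i)) :
    EvInt ((∑ i ∈ s, x i) ^ 2 - ∑ i ∈ s, x i ^ 2) := by
  obtain ⟨b, hb, hb'⟩ := sq_sum_parity s x hx
  rw [hb', add_sub_cancel_left]
  exact evInt_two_mul hb

variable {G : Type u} [Group G] [Finite G] {k : ℕ}

/-- `g ↦ g ^ k` fixes 2-elements and inverts elements of odd order. -/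
structure Exps (G : Type u) [Group G] (k : ℕ) : Prop where
  two : ∀ g : G, (∃ j : ℕ, orderOf g = 2 ^ j) → g ^ k = g
  odd : ∀ g : G, Odd (orderOf g) → g ^ k = g⁻¹

theorem Exps.coprime (h : Exps G k) : k.Coprime (Nat.card G) := by
  refine Nat.coprime_of_dvd fun r hr hrk hrG => ?_
  haveI := Fact.mk hr
  obtain ⟨g, hg⟩ := exists_prime_orderOf_dvd_card' r hrG
  have h1 : g ^ k = 1 := orderOf_dvd_iff_pow_eq_one.1 (hg ▸ hrk)
  have h2 : g = 1 := by
    rcases hr.eq_two_or_odd' with rfl | ho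
    · rw [← h.two g ⟨1, by rw [hg, pow_one]⟩]; exact h1
    · exact inv_eq_one.1 (by rw [← h.odd g (hg ▸ ho)]; exact h1)
  rw [h2, orderOf_one] at hg
  exact hr.ne_one hg.symm

theorem Exps.pow_pow (h : Exps G k) (g : G) : (g ^ k) ^ k = g := by
  haveI : Fact (Nat.Prime 2) := ⟨Nat.prime_two⟩
  obtain ⟨z, v, hzv, hcomm, hz, hv, -, -⟩ := exists_pPart_zpowers (p := 2) g
  have hv' : Odd (orderOf v) := Nat.not_even_iff_odd.1 fun he => hv (even_iff_two_dvd.1 he)
  rw [← hzv, hcomm.mul_pow, h.two z hz, h.odd v hv', hcomm.inv_right.mul_pow, h.two z hz, inv_pow,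
    h.odd v hv', inv_inv]

theorem Exps.isIrr (h : Exps G k) (χ : IrrCharacter G) :
    IsIrrCharacter G fun g => (χ : G → ℂ) (g ^ k) := by
  cases nonempty_fintype G
  obtain ⟨σ, hσ⟩ := Cfsg.Agent.Char.exists_ringAut_pow (Nat.card G) k Nat.card_pos h.coprime
  rw [show (fun g => (χ : G → ℂ) (g ^ k)) = fun g => σ ((χ : G → ℂ) g) from funext fun g =>
    (Cfsg.Agent.Char.ringAut_character_eq_pow (irr_isChar χ) σ hσ (orderOf_dvd_natCard g)).symm]
  exact (PrinCol.galIrr σ χ).2

/-- The automorphism applied to a character. -/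
def Exps.sig (h : Exps G k) (χ : IrrCharacter G) : IrrCharacter G :=
  ⟨fun g => (χ : G → ℂ) (g ^ k), h.isIrr χ⟩

theorem Exps.sig_apply (h : Exps G k) (χ : IrrCharacter G) (g : G) :
    (h.sig χ : G → ℂ) g = (χ : G → ℂ) (g ^ k) := rfl

theorem Exps.sig_sig (h : Exps G k) (χ : IrrCharacter G) : h.sig (h.sig χ) = χ :=
  Subtype.ext (funext fun g => by rw [h.sig_apply, h.sig_apply, h.pow_pow])

theorem Exps.sig_eq_iff (h : Exps G k) {χ : IrrCharacter G} :
    h.sig χ = χ ↔ ∀ g, (χ : G → ℂ) (g ^ k) = (χ : G → ℂ) g :=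
  ⟨fun e g => congrFun (congrArg Subtype.val e) g, fun e => Subtype.ext (funext e)⟩

theorem Exps.sig_one (h : Exps G k) (χ : IrrCharacter G) :
    (h.sig χ : G → ℂ) 1 = (χ : G → ℂ) 1 := by
  rw [h.sig_apply, one_pow]

variable {M : Ideal AlgInt}

theorem Exps.sig_mem (h : Exps G k) (hM : IsPModular 2 M) {χ : IrrCharacter G} :
    h.sig χ ∈ principalBlock M G ↔ χ ∈ principalBlock M G := by
  cases nonempty_fintype G
  haveI : Fact (Nat.Prime 2) := ⟨Nat.prime_two⟩
  obtain ⟨σ, hσ⟩ := Cfsg.Agent.Char.exists_ringAut_pow (Nat.card G) k Nat.card_pos h.coprime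
  have key : ∀ ψ : IrrCharacter G, ψ ∈ principalBlock M G → h.sig ψ ∈ principalBlock M G := by
    intro ψ hψ
    have e : h.sig ψ = PrinCol.galIrr σ ψ := Subtype.ext (funext fun g =>
      (Cfsg.Agent.Char.ringAut_character_eq_pow (irr_isChar ψ) σ hσ (orderOf_dvd_natCard g)).symm)
    rw [e]
    exact PrinCol.galIrr_mem hM σ hψ
  exact ⟨fun hχ => h.sig_sig χ ▸ key _ hχ, key χ⟩

/-- A fixed character of odd degree lies in the principal block. -/
theorem Exps.odd_mem_principal (h : Exps G k) (hM : IsPModular 2 M) {χ : IrrCharacter G}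
    (hfix : h.sig χ = χ) (hodd : Odd (charDegree (χ : G → ℂ))) : χ ∈ principalBlock M G := by
  classical
  haveI : Fact (Nat.Prime 2) := ⟨Nat.prime_two⟩
  haveI := Fintype.ofFinite G
  rw [PrinCol.mem_principal_iff hM, PrinCol.regTot]
  intro h0
  set s := Finset.univ.filter (fun g : G => ¬ 2 ∣ orderOf g) with hs
  have hfixed : s.filter (fun g => g⁻¹ = g) = {1} := by
    ext g
    simp only [hs, Finset.mem_filter, Finset.mem_univ, true_and, Finset.mem_singleton]
    refine ⟨fun ⟨hg, he⟩ => ?_, fun hg => ⟨by simp [hg], by simp [hg]⟩⟩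
    have hd : orderOf g ∣ 2 := orderOf_dvd_of_pow_eq_one (by rw [sq]; exact inv_eq_iff_mul_eq_one.1 he)
    rcases (Nat.dvd_prime Nat.prime_two).1 hd with h1 | h1
    · exact orderOf_eq_one_iff.1 h1
    · exact absurd (h1 ▸ dvd_rfl) hg
  have key := sum_sub_fixed (fun g : G => g⁻¹) (fun g => (χ : G → ℂ) g) s
    (fun g hg => by simpa [hs] using hg) (fun g _ => inv_inv g) (fun g _ => irr_isIntegral χ g)
    fun g hg => by
      have hodd' : Odd (orderOf g) :=
        Nat.not_even_iff_odd.1 fun he => (Finset.mem_filter.1 hg).2 (even_iff_two_dvd.1 he)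
      rw [← h.odd g hodd']
      exact h.sig_eq_iff.1 hfix g
  rw [hfixed, Finset.sum_singleton, h0, zero_sub, charDeg_spec'] at key
  exact not_evInt_of_odd hodd (by simpa using key.neg)

omit [Finite G] in
theorem isPPart_one [Fact (Nat.Prime 2)] {u : G} (hu : Odd (orderOf u)) : IsPPart 2 u 1 :=
  ⟨u, one_mul u, Commute.one_left u, ⟨0, orderOf_one⟩,
    fun h => Nat.not_even_iff_odd.2 hu (even_iff_two_dvd.2 h)⟩

/-- The principal block has a fixed character other than the trivial one. -/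
theorem Exps.exists_principal_fixed (h : Exps G k) (hM : IsPModular 2 M) {t : G} (ht : orderOf t = 2) :
    ∃ χ ∈ principalBlock M G, (χ : G → ℂ) ≠ (fun _ => 1) ∧ h.sig χ = χ := by
  classical
  haveI : Fact (Nat.Prime 2) := ⟨Nat.prime_two⟩
  haveI := Fintype.ofFinite G
  by_contra hno
  push Not at hno
  set s := Finset.univ.filter (fun χ : IrrCharacter G => χ ∈ principalBlock M G) with hs
  have key := sum_sub_fixed h.sig (fun χ => (χ : G → ℂ) t * (χ : G → ℂ) 1) s
    (fun χ hχ => by simpa [hs, h.sig_mem hM] using hχ) (fun χ _ => h.sig_sig χ)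
    (fun χ _ => (irr_isIntegral χ t).mul (irr_isIntegral χ 1))
    fun χ _ => by rw [h.sig_one, h.sig_apply, h.two t ⟨1, by rw [ht, pow_one]⟩]
  have hfix : s.filter (fun χ => h.sig χ = χ) = {trivialIrr G} := by
    ext χ
    simp only [hs, Finset.mem_filter, Finset.mem_univ, true_and, Finset.mem_singleton]
    refine ⟨fun ⟨hχ, he⟩ => Subtype.ext (by_contra fun hne => hno χ hχ hne he), ?_⟩
    rintro rfl
    exact ⟨trivial_mem_principalBlock hM, Subtype.ext rfl⟩
  have horth := section_orth hM (g := t) (h := (1 : G)) (isPPart_self_of_pPow (p := 2) ⟨1, by rw [ht, pow_one]⟩)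
    (isPPart_one (by simp)) (fun hc => by rw [isConj_one_left.mp hc, orderOf_one] at ht; omega)
    (isPBlock_principalBlock (M := M) (G := G))
  rw [finsum_mem_block, inv_one] at horth
  rw [hfix, Finset.sum_singleton, hs, horth, zero_sub] at key
  refine not_evInt_of_odd (n := 1) odd_one ?_
  simpa [trivialIrr] using key.neg

theorem Exps.apply_real (h : Exps G k) {u : G} (hu : Odd (orderOf u)) (hreal : IsConj u u⁻¹)
    (χ : IrrCharacter G) : (h.sig χ : G → ℂ) u = (χ : G → ℂ) u := by
  obtain ⟨g, hg⟩ := isConj_iff.1 hreal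
  rw [h.sig_apply, h.odd u hu, ← hg, irr_classFun χ]

/-- A real element of odd order with centralizer of odd order gives a fixed character of even degree. -/
theorem Exps.exists_even_fixed (h : Exps G k) {u : G} (hu1 : u ≠ 1) (hu : IsConj u u⁻¹)
    (hodd : Odd (Nat.card (Subgroup.centralizer ({u} : Set G)))) :
    ∃ χ : IrrCharacter G, Even (charDegree (χ : G → ℂ)) ∧ h.sig χ = χ := by
  classical
  haveI := Fintype.ofFinite G
  by_contra hno
  push Not at hno
  have huo : Odd (orderOf u) := hodd.of_dvd_nat (by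
    rw [← Subgroup.orderOf_mk u (Subgroup.mem_centralizer_singleton_iff.2 rfl)]
    exact orderOf_dvd_natCard _)
  set Φ := (Finset.univ : Finset (IrrCharacter G)).filter (fun χ => h.sig χ = χ) with hΦ
  set a : IrrCharacter G → ℂ := fun χ => (χ : G → ℂ) u with ha
  have haint : ∀ χ, IsIntegral ℤ (a χ) := fun χ => irr_isIntegral χ u
  have hreal : ∀ χ, conj (a χ) = a χ := fun χ => by
    obtain ⟨g, hg⟩ := isConj_iff.1 hu
    rw [ha, ← irr_apply_inv, ← hg, irr_classFun χ]
  have k1 := sum_sub_fixed h.sig (fun χ => a χ * (χ : G → ℂ) 1) Finset.univ (fun _ _ => Finset.mem_univ _)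
    (fun χ _ => h.sig_sig χ) (fun χ _ => (haint χ).mul (irr_isIntegral χ 1))
    fun χ _ => by rw [h.sig_one, ha]; simp only [h.apply_real huo hu]
  have h1 := Cfsg.Agent.Char.sum_irr_mul_conj u (1 : G)
  rw [if_neg (fun e => hu1 (isConj_one_left.mp e))] at h1
  simp only [charDeg_spec', Complex.conj_natCast] at h1
  simp only [charDeg_spec', ha] at k1
  rw [h1, zero_sub] at k1
  have k2 : EvInt (∑ χ ∈ Φ, a χ) := by
    have e : EvInt (∑ χ ∈ Φ, (a χ * (charDegree (χ : G → ℂ) : ℂ) - a χ)) := by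
      refine evInt_sum _ _ fun χ hχ => ?_
      obtain ⟨m, hm⟩ := Nat.not_even_iff_odd.1 fun he => hno χ he (Finset.mem_filter.1 hχ).2
      rw [hm, show a χ * ((2 * m + 1 : ℕ) : ℂ) - a χ = 2 * (a χ * (m : ℂ)) by push_cast; ring]
      exact evInt_two_mul ((haint χ).mul (isIntegral_natCast m))
    rw [Finset.sum_sub_distrib] at e
    rw [← hΦ] at k1
    simpa [ha, sub_sub_cancel] using k1.neg.sub e
  have k3 := sum_sub_fixed h.sig (fun χ => a χ ^ 2) Finset.univ (fun _ _ => Finset.mem_univ _)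
    (fun χ _ => h.sig_sig χ) (fun χ _ => (haint χ).pow 2)
    fun χ _ => by rw [ha]; simp only [h.apply_real huo hu]
  have h2 : ∑ χ : IrrCharacter G, a χ ^ 2 = (Nat.card (Subgroup.centralizer ({u} : Set G)) : ℂ) := by
    have h := Cfsg.Agent.Char.sum_irr_mul_conj u u
    rw [if_pos (IsConj.refl u)] at h
    rw [← h]
    exact Finset.sum_congr rfl fun χ _ => by rw [sq]; exact congrArg (a χ * ·) (hreal χ).symm
  have k4 := sq_sum Φ a fun χ _ => haint χ
  refine not_evInt_of_odd hodd ?_
  rw [← h2]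
  have k5 : EvInt ((∑ χ ∈ Φ, a χ) ^ 2) := by
    rw [sq]; exact k2.mul (IsIntegral.sum _ fun χ _ => haint χ)
  have := k3.add (k5.sub k4)
  simpa [hΦ] using this

end Cfsg.Agent.Block.SigmaFixed
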