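import Cfsg.Agent.Lib.Block.SigmaFixed.Basic
import Cfsg.Agent.Lib.Block.KleinFour
import Cfsg.Agent.Lib.Block.CentralDefect
import Cfsg.Agent.Lib.Block.QuotientBlocks

/-!
# A real element whose centralizer has 2-part two

The column of the principal block at `t * u` is twice the column of the quotient of `C(t)` by `⟨t⟩`; for a Klein
four group there the half of it is even, so a fixed character of even degree exists.
-/

set_option autoImplicit false
set_option linter.style.haveILetI false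

namespace Cfsg.Agent.Block.SigmaFixed

open scoped ComplexConjugate
open Cfsg Cfsg.Agent.Block

universe u

variable {G : Type u} [Group G] [Finite G]

/-- The values at `u` and at `t * u` agree modulo 2. -/
theorem evInt_sub_value (χ : IrrCharacter G) {t u : G} (ht : t * t = 1) (hu : Odd (orderOf u))
    (hcomm : Commute t u) : EvInt ((χ : G → ℂ) (t * u) - (χ : G → ℂ) u) := by
  classical
  obtain ⟨d, ρ, hρ⟩ := irr_isChar χ
  obtain ⟨b, c, -, hc, hk⟩ := Cfsg.Agent.Char.exists_rep_eigenbasis ρ (t * u)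
  obtain ⟨i, hi⟩ := hu
  have ht2 : ∀ n : ℕ, t ^ (2 * n) = 1 := fun n => by rw [pow_mul, sq, ht, one_pow]
  have hum : u ^ (2 * i + 1) = 1 := hi ▸ pow_orderOf_eq_one u
  have hpow : (t * u) ^ (2 * i + 2) = u := by
    rw [hcomm.mul_pow, show 2 * i + 2 = 2 * (i + 1) by ring, ht2, one_mul,
      show 2 * (i + 1) = 2 * i + 1 + 1 by ring, pow_succ, hum, one_mul]
  have hord : orderOf (t * u) ∣ 2 * (2 * i + 1) := orderOf_dvd_of_pow_eq_one (by
    rw [hcomm.mul_pow, ht2, one_mul, mul_comm 2, pow_mul, hum, one_pow])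
  have h1 : (χ : G → ℂ) (t * u) = ∑ j, c j := by
    have := hk 1
    simp only [pow_one] at this
    rw [← hρ, this]
  have h2 : (χ : G → ℂ) u = ∑ j, c j ^ (2 * i + 2) := by
    rw [← hρ, ← hk (2 * i + 2), hpow]
  rw [h1, h2, ← Finset.sum_sub_distrib]
  refine evInt_sum _ _ fun j _ => ?_
  have hint : IsIntegral ℤ (c j) :=
    IsIntegral.of_pow (orderOf_pos (t * u)) (by rw [hc j]; exact isIntegral_one)
  have hsq : (c j ^ (2 * i + 1)) ^ 2 = 1 := by
    obtain ⟨m, hm⟩ := hord
    rw [← pow_mul, mul_comm (2 * i + 1), hm, pow_mul, hc j, one_pow]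
  rcases sq_eq_one_iff.1 hsq with e | e
  · rw [show 2 * i + 2 = 2 * i + 1 + 1 by ring, pow_succ, e, one_mul, sub_self]
    exact evInt_zero
  · rw [show 2 * i + 2 = 2 * i + 1 + 1 by ring, pow_succ, e, show c j - -1 * c j = 2 * c j by ring]
    exact evInt_two_mul hint

variable {M : Ideal AlgInt}

/-- A fixed character of even degree from a real element `u` with `C(u)` of 2-part two. -/
theorem Exps.exists_even_fixed_half {k : ℕ} (h : Exps G k) (hM : IsPModular 2 M) {t u v : G}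
    (ht : orderOf t = 2) (hu : Odd (orderOf u))
    (huC : u ∈ Subgroup.centralizer ({t} : Set G)) (hvC : v ∈ Subgroup.centralizer ({t} : Set G))
    (hv : v * u * v⁻¹ = u⁻¹) (h4 : ¬ 4 ∣ Nat.card (Subgroup.centralizer ({u} : Set G)))
    (hcol : EvInt ((∑ᶠ ξ ∈ principalBlock M (Subgroup.centralizer ({t} : Set G)),
      (ξ : Subgroup.centralizer ({t} : Set G) → ℂ) ⟨u, huC⟩ *
        conj ((ξ : Subgroup.centralizer ({t} : Set G) → ℂ) ⟨u, huC⟩)) / 2)) :
    ∃ χ : IrrCharacter G, Even (charDegree (χ : G → ℂ)) ∧ h.sig χ = χ := by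
  classical
  haveI : Fact (Nat.Prime 2) := ⟨Nat.prime_two⟩
  haveI := Fintype.ofFinite G
  by_contra hno
  push Not at hno
  have hreal : IsConj u u⁻¹ := isConj_iff.2 ⟨v, hv⟩
  have hcomm : Commute t u := (Subgroup.mem_centralizer_singleton_iff.1 huC).symm
  have htt : t * t = 1 := by rw [← sq, ← ht, pow_orderOf_eq_one]
  have htinv : t⁻¹ = t := inv_eq_iff_mul_eq_one.2 htt
  have hvt : v * t = t * v := Subgroup.mem_centralizer_singleton_iff.1 hvC
  have htu : v * (t * u) * v⁻¹ = (t * u)⁻¹ := by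
    calc v * (t * u) * v⁻¹ = v * t * v⁻¹ * (v * u * v⁻¹) := by group
      _ = t * u⁻¹ := by rw [hv, hvt, mul_inv_cancel_right]
      _ = (t * u)⁻¹ := by rw [mul_inv_rev, htinv, hcomm.inv_right.eq]
  have hru : ∀ χ : IrrCharacter G, (χ : G → ℂ) u⁻¹ = (χ : G → ℂ) u := fun χ => by
    rw [← hv, irr_classFun χ]
  have hrtu : ∀ χ : IrrCharacter G, conj ((χ : G → ℂ) (t * u)) = (χ : G → ℂ) (t * u) := fun χ => by
    rw [← irr_apply_inv, ← htu, irr_classFun χ]
  set F : IrrCharacter G → ℂ :=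
    fun χ => (χ : G → ℂ) (t * u) * (((χ : G → ℂ) (t * u) - (χ : G → ℂ) u) / 2) with hF
  have hFint : ∀ χ, IsIntegral ℤ (F χ) := fun χ =>
    (irr_isIntegral χ _).mul (evInt_sub_value χ htt hu hcomm)
  have hFsig : ∀ χ, F (h.sig χ) = F χ := fun χ => by
    have e1 : (t * u) ^ k = t * u⁻¹ := by
      rw [hcomm.mul_pow, h.two t ⟨1, by rw [ht, pow_one]⟩, h.odd u hu]
    have e2 : (χ : G → ℂ) (t * u⁻¹) = (χ : G → ℂ) (t * u) := by
      rw [show t * u⁻¹ = (t * u)⁻¹ by rw [mul_inv_rev, htinv, hcomm.inv_right.eq], ← htu, irr_classFun χ]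
    simp only [hF]
    rw [h.apply_real hu hreal, h.sig_apply, e1, e2]
  -- outside the principal block everything is moved
  set U := (Finset.univ : Finset (IrrCharacter G)).filter (fun χ => χ ∉ principalBlock M G) with hU
  have hUsum : EvInt (∑ χ ∈ U, F χ) := by
    have key := sum_sub_fixed h.sig F U (fun χ hχ => by simpa [hU, h.sig_mem hM] using hχ)
      (fun χ _ => h.sig_sig χ) (fun χ _ => hFint χ) fun χ _ => hFsig χ
    rwa [Finset.filter_false_of_mem (s := U) fun χ hχ e => (show χ ∉ principalBlock M G from (Finset.mem_filter.1 hχ).2)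
      (h.odd_mem_principal hM e (Nat.not_even_iff_odd.1 fun he => hno χ he e)),
      Finset.sum_empty, sub_zero] at key
  -- all characters
  have hne : ¬ IsConj (t * u) u := fun hc => by
    obtain ⟨g, hg⟩ := isConj_iff.1 hc
    have e := congrArg orderOf hg
    rw [← MulAut.conj_apply, MulEquiv.orderOf_eq] at e
    rw [hcomm.orderOf_mul_eq_mul_orderOf_of_coprime (by rw [ht]; exact Nat.coprime_two_left.2 hu), ht] at e
    have := orderOf_pos u
    omega
  obtain ⟨n, hn, hnodd⟩ : ∃ n : ℕ, Nat.card (Subgroup.centralizer ({t * u} : Set G)) = 2 * n ∧ Odd n := by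
    have hle : Subgroup.centralizer ({t * u} : Set G) ≤ Subgroup.centralizer ({u} : Set G) := fun g hg => by
      rw [Subgroup.mem_centralizer_singleton_iff] at hg ⊢
      obtain ⟨i, hi⟩ := hu
      have hpow : (t * u) ^ (2 * i + 2) = u := by
        rw [hcomm.mul_pow, show 2 * i + 2 = 2 * (i + 1) by ring, pow_mul, sq, htt, one_pow, one_mul,
          show 2 * (i + 1) = 2 * i + 1 + 1 by ring, pow_succ, ← hi, pow_orderOf_eq_one, one_mul]
      rw [← hpow]
      exact (Commute.pow_right hg _).eq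
    have h2 : 2 ∣ Nat.card (Subgroup.centralizer ({t * u} : Set G)) := by
      rw [← ht, ← Subgroup.orderOf_mk t (show t ∈ Subgroup.centralizer ({t * u} : Set G) from
        Subgroup.mem_centralizer_singleton_iff.2 ((Commute.refl t).mul_right hcomm).eq)]
      exact orderOf_dvd_natCard _
    obtain ⟨n, hn⟩ := h2
    refine ⟨n, hn, Nat.not_even_iff_odd.1 fun he => h4 ?_⟩
    obtain ⟨j, rfl⟩ := he
    exact (Dvd.intro j (by omega) : 4 ∣ _).trans (hn ▸ Subgroup.card_dvd_of_le hle)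
  have hall : ∑ χ : IrrCharacter G, F χ = (n : ℂ) := by
    have e1 := Cfsg.Agent.Char.sum_irr_mul_conj (t * u) (t * u)
    rw [if_pos (IsConj.refl _), hn] at e1
    have e2 := Cfsg.Agent.Char.sum_irr_mul_conj (t * u) u
    rw [if_neg hne] at e2
    have : ∑ χ : IrrCharacter G, F χ =
        ((∑ χ : IrrCharacter G, (χ : G → ℂ) (t * u) * conj ((χ : G → ℂ) (t * u))) -
          ∑ χ : IrrCharacter G, (χ : G → ℂ) (t * u) * conj ((χ : G → ℂ) u)) / 2 := by
      rw [← Finset.sum_sub_distrib, Finset.sum_div]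
      refine Finset.sum_congr rfl fun χ _ => ?_
      rw [hrtu, ← irr_apply_inv, hru]
      simp only [hF]; ring
    rw [this, e1, e2]
    push_cast; ring
  -- the principal block
  set P := (Finset.univ : Finset (IrrCharacter G)).filter (fun χ => χ ∈ principalBlock M G) with hP
  have hPsum : EvInt (∑ χ ∈ P, F χ) := by
    have horth := section_orth hM (g := t * u) (h := u) (x := t) (z := 1)
      ⟨u, rfl, hcomm, ⟨1, by rw [ht, pow_one]⟩, fun hd => Nat.not_even_iff_odd.2 hu (even_iff_two_dvd.2 hd)⟩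
      (isPPart_one hu) (fun hc => by rw [isConj_one_left.mp hc, orderOf_one] at ht; omega)
      (isPBlock_principalBlock (M := M) (G := G))
    rw [finsum_mem_block] at horth
    have hc := principal_column (p := 2) hM (z := t) ⟨1, by rw [ht, pow_one]⟩
      (y := (⟨u, huC⟩ : Subgroup.centralizer ({t} : Set G)))
      (fun hd => Nat.not_even_iff_odd.2 hu (even_iff_two_dvd.2 (by rwa [Subgroup.orderOf_mk] at hd)))
    rw [finsum_mem_block, finsum_mem_block] at hc
    rw [finsum_mem_block, ← hc] at hcol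
    have e : ∑ χ ∈ P, F χ =
        ((∑ χ ∈ P, (χ : G → ℂ) (t * u) * conj ((χ : G → ℂ) (t * u))) -
          ∑ χ ∈ P, (χ : G → ℂ) (t * u) * (χ : G → ℂ) u⁻¹) / 2 := by
      rw [← Finset.sum_sub_distrib, Finset.sum_div]
      refine Finset.sum_congr rfl fun χ _ => ?_
      rw [hrtu, hru]
      simp only [hF]; ring
    rw [e, hP, horth, sub_zero]
    exact hcol
  refine not_evInt_of_odd hnodd ?_
  rw [← hall, ← Finset.sum_filter_add_sum_filter_not Finset.univ (fun χ => χ ∈ principalBlock M G) F]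
  exact hPsum.add hUsum

variable {C : Type u} [Group C] [Finite C]

/-- A regular function on the quotient by a central involution has the same total. -/
theorem regTot_central {t : C} [Fintype C] (ht : orderOf t = 2) (htc : t ∈ Subgroup.center C)
    [(Subgroup.zpowers t).Normal] [Fintype (C ⧸ Subgroup.zpowers t)] (f : C ⧸ Subgroup.zpowers t → ℂ) :
    PrinCol.regTot 2 (fun g : C => f (g : C ⧸ Subgroup.zpowers t)) = PrinCol.regTot 2 f := by
  classical
  haveI : Fact (Nat.Prime 2) := ⟨Nat.prime_two⟩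
  rw [PrinCol.regTot, PrinCol.regTot]
  refine Finset.sum_bij (fun g _ => (g : C ⧸ Subgroup.zpowers t)) (fun g hg => ?_) (fun a ha b hb e => ?_)
    (fun x hx => ?_) fun g _ => rfl
  · simp only [Finset.mem_filter, Finset.mem_univ, true_and] at hg ⊢
    exact fun hd => hg (hd.trans (orderOf_map_dvd (QuotientGroup.mk' (Subgroup.zpowers t)) g))
  · simp only [Finset.mem_filter, Finset.mem_univ, true_and] at ha hb
    have hm : a⁻¹ * b ∈ Subgroup.zpowers t := QuotientGroup.eq.1 e
    obtain ⟨i, hi⟩ := Subgroup.mem_zpowers_iff.1 hm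
    have hcen : a⁻¹ * b ∈ Subgroup.center C := hi ▸ zpow_mem htc i
    have h2 : orderOf (a⁻¹ * b) ∣ 2 := ht ▸ orderOf_dvd_of_mem_zpowers hm
    rcases (Nat.dvd_prime Nat.prime_two).1 h2 with h1 | h1
    · exact inv_mul_eq_one.1 (orderOf_eq_one_iff.1 h1)
    · exfalso
      have hca : Commute a (a⁻¹ * b) := Subgroup.mem_center_iff.1 hcen a
      have hcop : (orderOf a).Coprime (orderOf (a⁻¹ * b)) := by
        rw [h1]; exact (Nat.prime_two.coprime_iff_not_dvd.2 ha).symm
      have := hca.orderOf_mul_eq_mul_orderOf_of_coprime hcop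
      rw [mul_inv_cancel_left, h1] at this
      exact hb (this ▸ dvd_mul_left 2 _)
  · simp only [Finset.mem_filter, Finset.mem_univ, true_and] at hx
    obtain ⟨g, hg, hgr⟩ := exists_regular_lift (N := Subgroup.zpowers t) hx
    exact ⟨g, Finset.mem_filter.2 ⟨Finset.mem_univ _, hgr⟩, hg⟩

/-- With a Klein four group in `C / ⟨t⟩` the half column at a real element is even. -/
theorem half_column (hM : IsPModular 2 M) {t : C} (ht : orderOf t = 2) (htc : t ∈ Subgroup.center C)
    [(Subgroup.zpowers t).Normal] (P : Sylow 2 (C ⧸ Subgroup.zpowers t))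
    (hP : IsKleinFour (P : Subgroup (C ⧸ Subgroup.zpowers t)))
    (hone : ∀ s s' : C ⧸ Subgroup.zpowers t, orderOf s = 2 → orderOf s' = 2 → IsConj s s')
    {y : C} (hy : Odd (orderOf y)) (hreal : IsConj y y⁻¹) :
    EvInt ((∑ᶠ ξ ∈ principalBlock M C, (ξ : C → ℂ) y * conj ((ξ : C → ℂ) y)) / 2) := by
  classical
  haveI : Fact (Nat.Prime 2) := ⟨Nat.prime_two⟩
  cases nonempty_fintype C
  letI := Fintype.ofFinite (C ⧸ Subgroup.zpowers t)
  rw [finsum_mem_block]
  set B := (Finset.univ : Finset (IrrCharacter C)).filter (fun ξ => ξ ∈ principalBlock M C) with hB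
  have hr : ∀ ξ : IrrCharacter C, (ξ : C → ℂ) y⁻¹ = (ξ : C → ℂ) y := fun ξ => by
    obtain ⟨g, hg⟩ := isConj_iff.1 hreal
    rw [← hg, irr_classFun ξ]
  have hcj : ∀ ξ : IrrCharacter C, (ξ : C → ℂ) y * conj ((ξ : C → ℂ) y) = (ξ : C → ℂ) y ^ 2 := fun ξ => by
    rw [← irr_apply_inv, hr, sq]
  simp only [hcj]
  -- the two halves
  have horth := section_orth hM (g := t * y) (h := y) (x := t) (z := 1)
    ⟨y, rfl, (Subgroup.mem_center_iff.1 htc y).symm, ⟨1, by rw [ht, pow_one]⟩,
      fun hd => Nat.not_even_iff_odd.2 hy (even_iff_two_dvd.2 hd)⟩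
    (isPPart_one hy) (fun hc => by rw [isConj_one_left.mp hc, orderOf_one] at ht; omega)
    (isPBlock_principalBlock (M := M) (G := C))
  rw [finsum_mem_block] at horth
  simp only [hr] at horth
  set K := B.filter (fun ξ : IrrCharacter C => (ξ : C → ℂ) t = (ξ : C → ℂ) 1) with hK
  have hsplit : ∀ ξ : IrrCharacter C, (ξ : C → ℂ) (t * y) * (ξ : C → ℂ) y =
      if (ξ : C → ℂ) t = (ξ : C → ℂ) 1 then (ξ : C → ℂ) y ^ 2 else -((ξ : C → ℂ) y ^ 2) := by
    intro ξ
    have hm := char_center_mul ξ htc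
    have h1 := irr_one_ne_zero ξ
    have hty : (ξ : C → ℂ) (t * y) = (ξ : C → ℂ) t / (ξ : C → ℂ) 1 * (ξ : C → ℂ) y := hm y
    have hsq : ((ξ : C → ℂ) t / (ξ : C → ℂ) 1) ^ 2 = 1 := by
      have h2 := hm t
      rw [show t * t = 1 by rw [← sq, ← ht, pow_orderOf_eq_one]] at h2
      rw [sq, div_mul_div_comm, div_eq_one_iff_eq (mul_ne_zero h1 h1)]
      rw [div_mul_eq_mul_div, eq_div_iff h1] at h2
      linear_combination -h2
    rw [hty]
    split_ifs with he
    · rw [he, div_self h1]; ring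
    · rcases sq_eq_one_iff.1 hsq with e | e
      · exact absurd ((div_eq_one_iff_eq h1).1 e) he
      · rw [e]; ring
  have hhalf : ∑ ξ ∈ B, (ξ : C → ℂ) y ^ 2 = 2 * ∑ ξ ∈ K, (ξ : C → ℂ) y ^ 2 := by
    have e1 : ∑ ξ ∈ B, (ξ : C → ℂ) (t * y) * (ξ : C → ℂ) y = 0 := horth
    simp only [hsplit] at e1
    rw [Finset.sum_ite, Finset.sum_neg_distrib] at e1
    rw [← Finset.sum_filter_add_sum_filter_not B (fun ξ => (ξ : C → ℂ) t = (ξ : C → ℂ) 1)]
    simp only [hK]
    linear_combination -e1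
  rw [hhalf, mul_div_cancel_left₀ _ two_ne_zero]
  -- the quotient
  set φ : IrrCharacter (C ⧸ Subgroup.zpowers t) → IrrCharacter C := PrinCol.infl with hφ
  have hmem : ∀ η, φ η ∈ principalBlock M C ↔ η ∈ principalBlock M (C ⧸ Subgroup.zpowers t) := fun η => by
    rw [PrinCol.mem_principal_iff hM, PrinCol.mem_principal_iff hM, ← regTot_central ht htc]
    rfl
  set Q := (Finset.univ : Finset (IrrCharacter (C ⧸ Subgroup.zpowers t))).filter
    (fun η => η ∈ principalBlock M (C ⧸ Subgroup.zpowers t)) with hQ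
  have hKQ : ∑ ξ ∈ K, (ξ : C → ℂ) y = ∑ η ∈ Q, (η : C ⧸ Subgroup.zpowers t → ℂ) (y : C ⧸ _) := by
    symm
    refine Finset.sum_bij (fun η _ => φ η) (fun η hη => ?_) (fun a _ b _ e => PrinCol.infl_injective e)
      (fun ξ hξ => ?_) fun η _ => rfl
    · refine Finset.mem_filter.2 ⟨Finset.mem_filter.2 ⟨Finset.mem_univ _, (hmem η).2 (Finset.mem_filter.1 hη).2⟩, ?_⟩
      show (η : C ⧸ Subgroup.zpowers t → ℂ) (t : C ⧸ _) = (η : C ⧸ Subgroup.zpowers t → ℂ) ((1 : C) : C ⧸ _)
      rw [(QuotientGroup.eq_one_iff t).2 (Subgroup.mem_zpowers t), QuotientGroup.mk_one]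
    · simp only [hK, hB, Finset.mem_filter, Finset.mem_univ, true_and] at hξ
      obtain ⟨η, hη, hval⟩ := Cfsg.Agent.Char.IsIrr.exists_factor_quotient ξ.2 (Subgroup.zpowers t)
        (fun g hg => by
          obtain ⟨i, rfl⟩ := Subgroup.mem_zpowers_iff.1 hg
          rw [← zpow_mod_orderOf, ht]
          rcases Int.emod_two_eq i with e | e
          · rw [show i % ((2 : ℕ) : ℤ) = 0 from e, zpow_zero]
          · rw [show i % ((2 : ℕ) : ℤ) = 1 from e, zpow_one]; exact hξ.2)
      have he : φ ⟨η, hη⟩ = ξ := Subtype.ext (funext hval)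
      exact ⟨⟨η, hη⟩, Finset.mem_filter.2 ⟨Finset.mem_univ _, (hmem _).1 (he ▸ hξ.1)⟩, he⟩
  have hKsum : EvInt (∑ ξ ∈ K, (ξ : C → ℂ) y) := by
    rw [hKQ]
    set x : C ⧸ Subgroup.zpowers t := QuotientGroup.mk y with hx
    have hxo : Odd (orderOf x) := hy.of_dvd_nat (orderOf_map_dvd (QuotientGroup.mk' _) y)
    obtain ⟨ζ₂, ζ₃, ζ₄, ε, hε, n2, n3, n23, n24, n34, hset, hinv, -, -, -, hrel⟩ :=
      klein_principal hM P hP hone
    haveI := hP
    obtain ⟨z, hz⟩ : ∃ z : C ⧸ Subgroup.zpowers t, orderOf z = 2 := by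
      refine exists_prime_orderOf_dvd_card' 2 (dvd_trans ?_ (Subgroup.card_subgroup_dvd_card (P : Subgroup _)))
      rw [IsKleinFour.card_four]; norm_num
    have n4 : (ζ₄ : C ⧸ Subgroup.zpowers t → ℂ) ≠ (fun _ => 1) := fun e => by
      have h4 := (hinv z hz).2.2
      rw [e] at h4
      norm_num at h4
    have hQeq : Q = {trivialIrr _, ζ₂, ζ₃, ζ₄} := by
      ext η
      simp only [hQ, Finset.mem_filter, Finset.mem_univ, true_and, Finset.mem_insert, Finset.mem_singleton,
        hset, Set.mem_ofPred_eq]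
      exact ⟨fun h => h.imp_left fun e => Subtype.ext e, fun h => h.imp_left fun e => congrArg Subtype.val e⟩
    rw [hQeq, Finset.sum_insert (by
        simp only [Finset.mem_insert, Finset.mem_singleton, not_or]
        exact ⟨fun e => n2 (e ▸ rfl), fun e => n3 (e ▸ rfl), fun e => n4 (e ▸ rfl)⟩),
      Finset.sum_insert (by simp [n23, n24]), Finset.sum_insert (by simp [n34]), Finset.sum_singleton]
    have hr' := hrel x hxo
    show EvInt (1 + _)
    rcases hε with rfl | rfl <;> push_cast at hr'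
    · rw [show (1 : ℂ) + ((ζ₂ : C ⧸ Subgroup.zpowers t → ℂ) x + ((ζ₃ : C ⧸ Subgroup.zpowers t → ℂ) x +
        (ζ₄ : C ⧸ Subgroup.zpowers t → ℂ) x)) = 2 * (ζ₄ : C ⧸ Subgroup.zpowers t → ℂ) x by
          linear_combination hr']
      exact evInt_two_mul (irr_isIntegral ζ₄ x)
    · rw [show (1 : ℂ) + ((ζ₂ : C ⧸ Subgroup.zpowers t → ℂ) x + ((ζ₃ : C ⧸ Subgroup.zpowers t → ℂ) x +
        (ζ₄ : C ⧸ Subgroup.zpowers t → ℂ) x)) = 2 * ((ζ₃ : C ⧸ Subgroup.zpowers t → ℂ) x +
          (ζ₄ : C ⧸ Subgroup.zpowers t → ℂ) x) by linear_combination hr']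
      exact evInt_two_mul ((irr_isIntegral ζ₃ x).add (irr_isIntegral ζ₄ x))
  have k5 : EvInt ((∑ ξ ∈ K, (ξ : C → ℂ) y) ^ 2) := by
    rw [sq]; exact hKsum.mul (IsIntegral.sum _ fun (ξ : IrrCharacter C) _ => irr_isIntegral ξ y)
  have := k5.sub (sq_sum K (fun ξ : IrrCharacter C => (ξ : C → ℂ) y) fun ξ _ => irr_isIntegral ξ y)
  simpa using this

end Cfsg.Agent.Block.SigmaFixed
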