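import Mathlib
import Cfsg.Prelude.Def_Involutions
import Cfsg.Agent.Lib.Classical.MatrixOrders
import Cfsg.Agent.Lib.Fus.PSLTwo

/-!
# Real elements with centralizers of odd order

In `PSL₂(q)` and in a group with a strongly embedded subgroup; a real element of odd order lifts through a
surjective homomorphism.
-/

set_option autoImplicit false
set_option linter.style.haveILetI false

namespace Cfsg.Agent.Block.SigmaFixed

open Subgroup Cfsg.Agent

universe u v

/-- There is a non-identity element inverted by an involution with centralizer of odd order. -/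
def RealOdd (X : Type u) [Group X] : Prop :=
  ∃ l w : X, l ≠ 1 ∧ w * w = 1 ∧ w * l * w⁻¹ = l⁻¹ ∧ Odd (Nat.card (centralizer ({l} : Set X)))

theorem odd_of_pow_eq_one {X : Type u} [Group X] [Finite X] {m : ℕ} (hm : Odd m) {H : Subgroup X}
    (h : ∀ g ∈ H, g ^ m = 1) : Odd (Nat.card H) := by
  haveI : Fact (Nat.Prime 2) := ⟨Nat.prime_two⟩
  refine Nat.not_even_iff_odd.1 fun he => ?_
  obtain ⟨g, hg⟩ := exists_prime_orderOf_dvd_card' (G := H) 2 (even_iff_two_dvd.1 he)
  have : orderOf g ∣ m := orderOf_dvd_of_pow_eq_one (Subtype.ext (h g g.2))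
  rw [hg] at this
  exact Nat.not_even_iff_odd.2 hm (even_iff_two_dvd.2 this)

theorem RealOdd.congr {X : Type u} {Y : Type v} [Group X] [Group Y] (e : Y ≃* X) (h : RealOdd X) :
    RealOdd Y := by
  obtain ⟨l, w, hl, hw, hwl, hodd⟩ := h
  refine ⟨e.symm l, e.symm w, fun h => hl ?_, by rw [← map_mul, hw, map_one],
    by rw [← map_mul, ← map_inv, ← map_mul, hwl, map_inv], ?_⟩
  · simpa using congrArg e h
  · rw [← Nat.card_congr (Equiv.subtypeEquiv e.symm.toEquiv fun g => ?_)]
    · exact hodd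
    · simp only [mem_centralizer_singleton_iff]
      refine ⟨fun h => ?_, fun h => e.symm.injective ?_⟩
      · show e.symm g * e.symm l = e.symm l * e.symm g
        rw [← map_mul, h, map_mul]
      · rw [map_mul, map_mul]; exact h

section PSL

open Matrix

variable {F : Type*} [Field F] [Fintype F]

local notation "π₂" => Classical.slToPSL 2 F

omit [Fintype F] in
theorem commute_scalar {A B : Matrix.SpecialLinearGroup (Fin 2) F} (h : Commute (π₂ A) (π₂ B)) :
    ∃ c : F, (B : Matrix (Fin 2) (Fin 2) F) * A = c • ((A : Matrix (Fin 2) (Fin 2) F) * B) := by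
  have h1 : π₂ ((A * B)⁻¹ * (B * A)) = 1 := by
    rw [map_mul, map_inv, map_mul, map_mul, h.eq, inv_mul_cancel]
  obtain ⟨c, hc⟩ := (Classical.slToPSL_eq_one_iff _).1 h1
  refine ⟨c, ?_⟩
  have e : B * A = A * B * ((A * B)⁻¹ * (B * A)) := by group
  rw [← Matrix.SpecialLinearGroup.coe_mul, e, Matrix.SpecialLinearGroup.coe_mul, hc,
    Matrix.SpecialLinearGroup.coe_mul]
  ext i j
  simp [Matrix.scalar_apply, Matrix.mul_diagonal, mul_comm c]

omit [Fintype F] in
theorem mem_entries {A : Matrix.SpecialLinearGroup (Fin 2) F} :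
    (A : Matrix (Fin 2) (Fin 2) F) 0 0 * (A : Matrix (Fin 2) (Fin 2) F) 1 1 -
      (A : Matrix (Fin 2) (Fin 2) F) 0 1 * (A : Matrix (Fin 2) (Fin 2) F) 1 0 = 1 := by
  have h := A.2
  rwa [det_fin_two] at h

/-- A diagonal element: odd centralizer, inverted by the flip. -/
theorem realOdd_diag {a : F} (ha : a ≠ 0) (h1 : a * a ≠ 1) (h2 : a * a ≠ -1) {m : ℕ} (hm : Odd m)
    (hpow : ∀ x : F, x ≠ 0 → x ^ m = 1 ∨ x ^ m = -1) :
    RealOdd (Matrix.ProjectiveSpecialLinearGroup (Fin 2) F) := by
  set D := Fus.PSLTwo.mk2 a 0 0 a⁻¹ (by rw [mul_inv_cancel₀ ha]; ring)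
  set W := Fus.PSLTwo.mk2 (0 : F) 1 (-1) 0 (by ring)
  refine ⟨π₂ D, π₂ W, fun h => h1 ?_, ?_, ?_, odd_of_pow_eq_one hm fun g hg => ?_⟩
  · obtain ⟨c, hc⟩ := (Classical.slToPSL_eq_one_iff _).1 h
    have e0 := congrFun (congrFun hc 0) 0
    have e1 := congrFun (congrFun hc 1) 1
    simp [D] at e0 e1
    rw [← e0] at e1
    conv_lhs => arg 2; rw [← e1]
    exact mul_inv_cancel₀ ha
  · rw [← map_mul, Classical.slToPSL_eq_one_iff]
    refine ⟨-1, ?_⟩
    ext i j
    fin_cases i <;> fin_cases j <;> simp [W]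
  · rw [mul_inv_eq_iff_eq_mul, ← map_inv, ← map_mul, ← map_mul]
    refine congrArg _ (Subtype.ext ?_)
    ext i j
    fin_cases i <;> fin_cases j <;> simp [W, D, Matrix.adjugate_fin_two]
  · obtain ⟨A, rfl⟩ := Classical.slToPSL_surjective g
    obtain ⟨c, hc⟩ := commute_scalar (show Commute (π₂ A) (π₂ D) from mem_centralizer_singleton_iff.1 hg)
    have e00 := congrFun (congrFun hc 0) 0
    have e01 := congrFun (congrFun hc 0) 1
    have e10 := congrFun (congrFun hc 1) 0
    simp [D, Matrix.mul_apply, Fin.sum_univ_two] at e00 e01 e10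
    have hd := mem_entries (A := A)
    have hA00 : (A : Matrix (Fin 2) (Fin 2) F) 0 0 ≠ 0 := by
      intro h0
      rw [h0, zero_mul, zero_sub] at hd
      have n01 : (A : Matrix (Fin 2) (Fin 2) F) 0 1 ≠ 0 := fun e => by simp [e] at hd
      have n10 : (A : Matrix (Fin 2) (Fin 2) F) 1 0 ≠ 0 := fun e => by simp [e] at hd
      field_simp at e01 e10
      have c1 : c = a * a := by linear_combination -e01
      subst c1
      have : (a * a - 1) * (a * a + 1) = 0 := by linear_combination -e10
      rcases mul_eq_zero.1 this with e | e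
      · exact h1 (sub_eq_zero.1 e)
      · exact h2 (eq_neg_of_add_eq_zero_left e)
    have hc1 : c = 1 := mul_right_cancel₀ (mul_ne_zero hA00 ha) (by linear_combination -e00)
    subst hc1
    have hne : a * a - 1 ≠ 0 := sub_ne_zero.2 h1
    field_simp at e01 e10
    have z01 : (A : Matrix (Fin 2) (Fin 2) F) 0 1 = 0 :=
      mul_right_cancel₀ hne (by linear_combination e01)
    have z10 : (A : Matrix (Fin 2) (Fin 2) F) 1 0 = 0 :=
      mul_right_cancel₀ hne (by linear_combination -e10)
    set x := (A : Matrix (Fin 2) (Fin 2) F) 0 0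
    set y := (A : Matrix (Fin 2) (Fin 2) F) 1 1
    rw [z01, zero_mul, sub_zero] at hd
    have hA : (A : Matrix (Fin 2) (Fin 2) F) = Matrix.diagonal ![x, y] := by
      ext i j
      fin_cases i <;> fin_cases j <;> simp [z01, z10, x, y]
    rw [Classical.slToPSL_pow_eq_one_iff]
    refine ⟨x ^ m, ?_⟩
    have hxy : x ^ m * y ^ m = 1 := by rw [← mul_pow, hd, one_pow]
    have hy : y ^ m = x ^ m := by
      rcases hpow x hA00 with e | e <;> rw [e] at hxy ⊢
      · linear_combination hxy
      · linear_combination -hxy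
    rw [hA, Matrix.diagonal_pow, Matrix.scalar_apply]
    ext i j
    fin_cases i <;> fin_cases j <;> simp [hy]

/-- A transvection: odd centralizer, inverted by a diagonal element. -/
theorem realOdd_unipotent {i : F} (hi : i * i = -1) (hodd : Odd (Fintype.card F)) :
    RealOdd (Matrix.ProjectiveSpecialLinearGroup (Fin 2) F) := by
  set U := Fus.PSLTwo.mk2 (1 : F) 1 0 1 (by ring)
  set T := Fus.PSLTwo.mk2 i 0 0 (-i) (by linear_combination -hi)
  refine ⟨π₂ U, π₂ T, fun h => ?_, ?_, ?_, odd_of_pow_eq_one hodd fun g hg => ?_⟩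
  · obtain ⟨c, hc⟩ := (Classical.slToPSL_eq_one_iff _).1 h
    have := congrFun (congrFun hc 0) 1
    simp [U] at this
  · rw [← map_mul, Classical.slToPSL_eq_one_iff]
    refine ⟨-1, ?_⟩
    ext r s
    fin_cases r <;> fin_cases s <;> simp [T, hi]
  · rw [mul_inv_eq_iff_eq_mul, ← map_inv, ← map_mul, ← map_mul]
    refine congrArg _ (Subtype.ext ?_)
    ext r s
    fin_cases r <;> fin_cases s <;> simp [T, U, Matrix.adjugate_fin_two]
  · obtain ⟨A, rfl⟩ := Classical.slToPSL_surjective g
    obtain ⟨c, hc⟩ := commute_scalar (show Commute (π₂ A) (π₂ U) from mem_centralizer_singleton_iff.1 hg)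
    have e00 := congrFun (congrFun hc 0) 0
    have e01 := congrFun (congrFun hc 0) 1
    have e10 := congrFun (congrFun hc 1) 0
    simp [U, Matrix.mul_apply, Fin.sum_univ_two] at e00 e01 e10
    have hd := mem_entries (A := A)
    set x := (A : Matrix (Fin 2) (Fin 2) F) 0 0
    set z := (A : Matrix (Fin 2) (Fin 2) F) 1 0
    set w := (A : Matrix (Fin 2) (Fin 2) F) 1 1
    set b := (A : Matrix (Fin 2) (Fin 2) F) 0 1
    have hz : z = 0 := by
      by_contra hne
      have hc1 : c = 1 := mul_right_cancel₀ hne (by linear_combination -e10)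
      subst hc1
      exact hne (by linear_combination e00)
    rw [hz, mul_zero, sub_zero] at hd
    have hx : x ≠ 0 := fun e => by simp [e] at hd
    have hc1 : c = 1 := mul_right_cancel₀ hx (by linear_combination -e00 + hz)
    subst hc1
    have hwx : w = x := by linear_combination e01
    rw [hwx] at hd
    have hxx : x * x = 1 := hd
    have hA : π₂ A = π₂ (Fus.PSLTwo.mk2 1 (b * x) 0 1 (by ring)) := by
      refine (inv_mul_eq_one.1 ?_).symm
      rw [← map_inv, ← map_mul, Classical.slToPSL_eq_one_iff]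
      refine ⟨x, ?_⟩
      ext r s
      fin_cases r <;> fin_cases s <;>
        simp [Matrix.adjugate_fin_two, Matrix.mul_apply, Fin.sum_univ_two] <;>
        first | linear_combination (-b * x) * hz | linear_combination (-b * x) * hwx - b * hxx |
          linear_combination hz | linear_combination hwx
    have hpowU : ∀ n : ℕ, ((Fus.PSLTwo.mk2 1 (b * x) 0 1 (by ring) : Matrix.SpecialLinearGroup (Fin 2) F) :
        Matrix (Fin 2) (Fin 2) F) ^ n = !![1, n * (b * x); 0, 1] := by
      intro n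
      induction n with
      | zero => ext r s; fin_cases r <;> fin_cases s <;> simp
      | succ n ih =>
        rw [pow_succ, ih, Fus.PSLTwo.coe_mk2]
        ext r s
        fin_cases r <;> fin_cases s <;> simp [Matrix.mul_apply, Fin.sum_univ_two] <;> ring
    rw [hA, Classical.slToPSL_pow_eq_one_iff, hpowU]
    refine ⟨1, ?_⟩
    ext r s
    fin_cases r <;> fin_cases s <;> simp

theorem realOdd_psl (hq : 4 ≤ Fintype.card F) (h : Fintype.card F % 8 = 5 ∨ Fintype.card F % 4 = 3 ∨
    Even (Fintype.card F)) : RealOdd (Matrix.ProjectiveSpecialLinearGroup (Fin 2) F) := by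
  classical
  set q := Fintype.card F with hqdef
  by_cases h5 : q % 8 = 5
  · have hr : ringChar F ≠ 2 := fun e => by
      have := FiniteField.even_card_iff_char_two.1 e
      omega
    obtain ⟨i, hi⟩ := (FiniteField.isSquare_neg_one_iff (F := F)).2 (by omega)
    exact realOdd_unipotent hi.symm (Nat.odd_iff.2 (by omega))
  obtain ⟨a, ha⟩ := IsCyclic.exists_generator (α := Fˣ)
  have horda : orderOf a = q - 1 := by
    rw [orderOf_eq_card_of_forall_mem_zpowers ha, Nat.card_units, Nat.card_eq_fintype_card]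
  have h1 : (a : F) * a ≠ 1 := fun e => by
    have : orderOf a ∣ 2 := orderOf_dvd_of_pow_eq_one (by rw [sq]; exact Units.ext e)
    have := Nat.le_of_dvd two_pos this
    omega
  by_cases hev : Even q
  · have hr : ringChar F = 2 := FiniteField.even_card_iff_char_two.2 (Nat.even_iff.1 hev)
    haveI : CharP F 2 := ringChar.of_eq hr
    have hneg : (-1 : F) = 1 := CharTwo.neg_eq 1
    exact realOdd_diag a.ne_zero h1 (by rw [hneg]; exact h1) (m := q - 1)
      (Nat.Even.sub_odd (by omega) hev odd_one) fun x hx => Or.inl (FiniteField.pow_card_sub_one_eq_one x hx)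
  · have h3 : q % 4 = 3 := (h.resolve_left h5).resolve_right hev
    have hr : ringChar F ≠ 2 := fun e => by
      have := FiniteField.even_card_iff_char_two.1 e
      omega
    refine realOdd_diag a.ne_zero h1 (fun e => ?_) (m := q / 2) (Nat.odd_iff.2 (by omega))
      fun x hx => FiniteField.pow_dichotomy hr hx
    exact (FiniteField.isSquare_neg_one_iff (F := F)).1 ⟨a, e.symm⟩ h3

end PSL

section StronglyEmbedded

variable {G : Type u} [Group G] [Finite G]

theorem card_fixedPoints_mod_two {α : Type*} [Finite α] (f : Function.End α) (hf : f * f = 1) :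
    Nat.card α % 2 = Nat.card (Function.fixedPoints f) % 2 := by
  classical
  haveI := Fintype.ofFinite α
  haveI : Fact (Nat.Prime 2) := ⟨Nat.prime_two⟩
  have := Equiv.Perm.card_fixedPoints_modEq (p := 2) (n := 1) (f := f) (by rw [pow_one, pow_two]; exact hf)
  rw [Nat.card_eq_fintype_card, Nat.card_eq_fintype_card]
  exact this

/-- An involution normalising a subgroup of even order commutes with an involution of it. -/
theorem exists_fixed_involution {H : Subgroup G} (hH : Even (Nat.card H)) {a : G} (ha : a * a = 1)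
    (hn : ∀ x ∈ H, a * x * a⁻¹ ∈ H) : ∃ z ∈ H, orderOf z = 2 ∧ a * z = z * a := by
  let inv' : Function.End H := fun z => z⁻¹
  let cj : Function.End (Function.fixedPoints inv') := fun z =>
    ⟨⟨a * z.1 * a⁻¹, hn _ z.1.2⟩, by
      refine Subtype.ext ?_
      show (a * z.1 * a⁻¹)⁻¹ = a * (z.1 : G) * a⁻¹
      have hz : ((z.1 : G))⁻¹ = z.1 := congrArg Subtype.val z.2
      rw [mul_inv_rev, mul_inv_rev, inv_inv, hz, mul_assoc]⟩
  have e1 := card_fixedPoints_mod_two inv' (funext fun z => inv_inv z)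
  have e2 := card_fixedPoints_mod_two cj (funext fun z => Subtype.ext (Subtype.ext (by
    show a * (a * (z.1 : G) * a⁻¹) * a⁻¹ = (z.1 : G)
    rw [inv_eq_of_mul_eq_one_right ha, show a * (a * (z.1 : G) * a) * a = a * a * z.1 * (a * a) by group,
      ha, one_mul, mul_one])))
  set T := Function.fixedPoints cj
  have hev : Nat.card T % 2 = 0 := by rw [← e2, ← e1, ← Nat.even_iff]; exact hH
  let one' : T := ⟨⟨1, inv_one⟩, Subtype.ext (Subtype.ext (by
    show a * 1 * a⁻¹ = 1
    group))⟩
  have h1 : Nat.card T ≠ 1 := fun h => by omega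
  haveI : Nontrivial T := by
    refine Finite.one_lt_card_iff_nontrivial.1 ?_
    haveI : Nonempty T := ⟨one'⟩
    have := Nat.card_pos (α := T)
    omega
  obtain ⟨z, hz⟩ := exists_ne one'
  refine ⟨z.1.1, z.1.1.2, orderOf_eq_prime ?_ fun h => hz (Subtype.ext (Subtype.ext (Subtype.ext h))), ?_⟩
  · rw [sq]
    exact inv_eq_iff_mul_eq_one.1 (congrArg Subtype.val z.1.2)
  · have : a * (z.1.1 : G) * a⁻¹ = z.1.1 := congrArg (fun t : Function.fixedPoints inv' => (t.1 : G)) z.2
    exact mul_inv_eq_iff_eq_mul.1 this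

/-- A group with a strongly embedded subgroup has a real element with centralizer of odd order. -/
theorem realOdd_of_se {H : Subgroup G} (hH : Cfsg.IsStronglyEmbedded H) : RealOdd G := by
  haveI : Fact (Nat.Prime 2) := ⟨Nat.prime_two⟩
  obtain ⟨htop, hev, hint⟩ := hH
  have hC : ∀ z ∈ H, orderOf z = 2 → ∀ x : G, x * z = z * x → x ∈ H := fun z hz hz2 x hx => by
    by_contra hxH
    refine Nat.not_even_iff_odd.2 (hint x hxH) (even_iff_two_dvd.2 (hz2 ▸ orderOf_dvd_natCard _ ?_))
    exact ⟨hz, z, hz, by simp [hx]⟩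
  obtain ⟨a, ha⟩ := exists_prime_orderOf_dvd_card' (G := H) 2 (even_iff_two_dvd.1 hev)
  rw [← Subgroup.orderOf_coe] at ha
  obtain ⟨g, hg⟩ : ∃ g : G, g ∉ H := by
    by_contra h; push Not at h; exact htop (eq_top_iff.2 fun x _ => h x)
  set b := g * a * g⁻¹ with hbdef
  have hb2 : orderOf b = 2 := by rw [hbdef, ← MulAut.conj_apply, MulEquiv.orderOf_eq, ha]
  have hb : b ∉ H := fun hb => by
    refine Nat.not_even_iff_odd.2 (hint g hg) (even_iff_two_dvd.2 (hb2 ▸ orderOf_dvd_natCard _ ?_))
    exact ⟨hb, a, a.2, rfl⟩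
  have haa : (a : G) * a = 1 := by rw [← sq, ← ha, pow_orderOf_eq_one]
  have hbb : b * b = 1 := by rw [← sq, ← hb2, pow_orderOf_eq_one]
  have hai : (a : G)⁻¹ = a := inv_eq_of_mul_eq_one_right haa
  have hbi : b⁻¹ = b := inv_eq_of_mul_eq_one_right hbb
  set l := (a : G) * b with hldef
  have hinv : (a : G) * l * (a : G)⁻¹ = l⁻¹ := by
    rw [hldef, mul_inv_rev, hai, hbi, ← mul_assoc (a : G) a b, haa, one_mul]
  have key : ∀ z : G, orderOf z = 2 → z * l = l * z → (a : G) * z = z * a → False := fun z hz hzl haz => by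
    have hzH : z ∈ H := hC a a.2 ha z haz.symm
    have hl : l ∈ H := hC z hzH hz l hzl.symm
    exact hb (by simpa [hldef, ← mul_assoc, haa] using H.mul_mem a.2 hl)
  refine ⟨l, a, fun h => hb ?_, haa, hinv, Nat.not_even_iff_odd.1 fun he => ?_⟩
  · rw [hldef, mul_eq_one_iff_inv_eq, hai] at h
    exact h ▸ a.2
  · obtain ⟨z, hzC, hz2, hz⟩ := exists_fixed_involution he haa fun x hx => by
      rw [mem_centralizer_singleton_iff] at hx ⊢
      have h1 : Commute x l⁻¹ := (Commute.inv_right hx :)
      have h2 := h1.map (MulAut.conj (a : G)).toMonoidHom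
      simp only [MulEquiv.coe_toMonoidHom, MulAut.conj_apply] at h2
      rwa [show (a : G) * l⁻¹ * (a : G)⁻¹ = l by
        rw [show (a : G) * l⁻¹ * (a : G)⁻¹ = ((a : G) * l * (a : G)⁻¹)⁻¹ by group, hinv, inv_inv]] at h2
    exact key z hz2 (mem_centralizer_singleton_iff.1 hzC) hz

end StronglyEmbedded

/-- A real element of odd order lifts to one inverted by a given lift of the inverting element. -/
theorem lift_inverted {H : Type u} {L : Type v} [Group H] [Finite H] [Group L] (f : H →* L)
    (hf : Function.Surjective f) {w : H} (hw : w * w = 1) {l : L} (hl : Odd (orderOf l))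
    (hinv : f w * l * (f w)⁻¹ = l⁻¹) : ∃ h : H, Odd (orderOf h) ∧ w * h * w⁻¹ = h⁻¹ ∧ f h = l := by
  obtain ⟨i, hi⟩ := hl
  obtain ⟨y, hy⟩ := hf (l ^ (i + 1))
  set h0 := y * (w * y⁻¹ * w⁻¹) with hh0
  have hwi : w⁻¹ = w := inv_eq_of_mul_eq_one_right hw
  have h0inv : w * h0 * w⁻¹ = h0⁻¹ := by
    rw [hh0, mul_inv_rev, mul_inv_rev, mul_inv_rev, inv_inv, inv_inv, hwi]
    calc w * (y * (w * y⁻¹ * w)) * w = w * y * w * y⁻¹ * (w * w) := by group
      _ = _ := by rw [hw, mul_one]; group
  have hf0 : f h0 = l := by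
    rw [hh0, map_mul, map_mul, map_mul, map_inv, map_inv, hy, ← inv_pow, ← conj_pow]
    have hinv' : f w * l⁻¹ * (f w)⁻¹ = l := by
      rw [show f w * l⁻¹ * (f w)⁻¹ = (f w * l * (f w)⁻¹)⁻¹ by group, hinv, inv_inv]
    rw [hinv', ← pow_add, show i + 1 + (i + 1) = orderOf l + 1 by omega, pow_succ, pow_orderOf_eq_one, one_mul]
  obtain ⟨k, r, hr, hkr⟩ := Nat.exists_eq_two_pow_mul_odd (orderOf_pos h0).ne'
  obtain ⟨j, hj⟩ := exists_pow_eq_self_of_coprime (x := l) (n := 2 ^ k)
    (Nat.Coprime.pow_left k (Nat.coprime_two_left.2 ⟨i, hi⟩))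
  refine ⟨(h0 ^ (2 ^ k)) ^ j, hr.of_dvd_nat (orderOf_dvd_of_pow_eq_one ?_), ?_, ?_⟩
  · rw [← pow_mul, ← pow_mul, show 2 ^ k * (j * r) = 2 ^ k * r * j by ring, ← hkr, pow_mul,
      pow_orderOf_eq_one, one_pow]
  · rw [← conj_pow, ← conj_pow, h0inv, inv_pow, inv_pow]
  · rw [map_pow, map_pow, hf0, hj]

end Cfsg.Agent.Block.SigmaFixed
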