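import Cfsg.Agent.Lib.Block.SigmaFixed.HalfColumn
import Cfsg.Agent.Lib.Block.SigmaFixed.RealElt
import Cfsg.Agent.Lib.Fus.Goldschmidt.Lift
import Cfsg.Agent.Lib.Invol.GW.Consumers.AbelianSylow
import Cfsg.Agent.Lib.Invol.GW.Dihedral.ThreeDoneFinal
import Cfsg.Agent.S0205

/-!
# Simple groups with abelian Sylow 2-subgroups have fixed characters of even degree (for S4523)

The conclusion about strongly closed subgroups and the case split at order eight are hypotheses here.
-/

set_option autoImplicit false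
set_option linter.style.haveILetI false

namespace Cfsg.Agent.Block.SigmaFixed

open Subgroup Cfsg Cfsg.Agent Cfsg.Agent.Fus

universe u

variable {G : Type u} [Group G] [Finite G]

theorem realOdd_of_isPSL {X : Type u} [Group X] (h : Invol.GW.IsPSLTwoAbelianSylow X) : RealOdd X := by
  obtain ⟨F, iF, iT, hq, ⟨e⟩⟩ := h
  refine RealOdd.congr e ?_
  rcases hq with ⟨h8, h5⟩ | ⟨n, hn, hq⟩
  · exact realOdd_psl (by omega) (by omega)
  · have : 4 ≤ Fintype.card F := hq ▸ Nat.pow_le_pow_right two_pos hn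
    exact realOdd_psl this (Or.inr (Or.inr (hq ▸ (Nat.even_pow.2 ⟨even_two, by omega⟩))))

/-- A simple group with abelian Sylow 2-subgroups of order at most four. -/
theorem realOdd_small {L : Type u} [Group L] [Finite L] [IsSimpleGroup L] (hL : ¬ IsMulCommutative L)
    (S : Sylow 2 L) (hS : IsMulCommutative (S : Subgroup L)) (h8 : ¬ 8 ∣ Nat.card L) : RealOdd L := by
  haveI : Fact (Nat.Prime 2) := ⟨Nat.prime_two⟩
  have heven : Even (Nat.card L) := Nat.not_odd_iff_even.1 fun h =>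
    hL ⟨⟨IsSimpleGroup.comm_iff_isSolvable.2 (Cfsg.Agent.S0205.result h)⟩⟩
  refine realOdd_of_isPSL (Invol.GW.simple_small_rank Invol.GW.Dihedral.gwStatement_holds hL heven S hS
    fun A _ _ => (Subgroup.card_le_card_group A).trans ?_)
  obtain ⟨k, hk⟩ := IsPGroup.iff_card.1 S.isPGroup'
  rw [hk]
  refine Nat.pow_le_pow_right two_pos ?_
  by_contra hk3
  exact h8 ((pow_dvd_pow 2 (by omega : 3 ≤ k)).trans (hk ▸ Subgroup.card_subgroup_dvd_card (S : Subgroup L)))

/-- With an elementary Sylow 2-subgroup of order eight and a component moved at `t`. -/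
theorem exists_even_fixed_eight {k : ℕ} (h : Exps G k) {M : Ideal AlgInt} (hM : IsPModular 2 M) (s : Gold.Setup G)
    (hSA : (s.S : Subgroup G) = s.A) (h8 : Nat.card s.A = 8) {t : G} (ht : t ∈ s.A) (ht1 : t ≠ 1)
    {K : Subgroup (Gold.Cq t)} (hK : Gold.Moved s.A t K) (hd : Gold.dPart s.A t K = zpowers t) :
    ∃ χ : IrrCharacter G, Even (charDegree (χ : G → ℂ)) ∧ h.sig χ = χ := by
  classical
  haveI : Fact (Nat.Prime 2) := ⟨Nat.prime_two⟩
  haveI hOn : (Cfsg.pPrimeCore 2 ↥(centralizer ({t} : Set G))).Normal := Grp.pPrimeCore_isNormal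
  set C := centralizer ({t} : Set G) with hC
  have hord : orderOf t = 2 := s.orderOf_eq ht ht1
  have hAC : s.A ≤ C := s.le_centralizer ht
  have h16 : ¬ 16 ∣ Nat.card G := fun hd16 => by
    have h1 : 2 ^ 4 ∣ Nat.card (s.S : Subgroup G) := s.S.pow_dvd_card_of_pow_dvd_card hd16
    rw [hSA, h8] at h1
    norm_num at h1
  -- 2-subgroups
  have habel : IsMulCommutative (s.S : Subgroup G) := hSA ▸ s.elem.1
  have hsq : ∀ x : G, (∃ j : ℕ, x ^ 2 ^ j = 1) → x * x = 1 := fun x ⟨j, hj⟩ => by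
    have hp : IsPGroup 2 (zpowers x) := by
      refine IsPGroup.iff_card.2 ?_
      obtain ⟨i, -, hi⟩ := (Nat.dvd_prime_pow Nat.prime_two).1 (orderOf_dvd_of_pow_eq_one hj)
      exact ⟨i, by rw [Nat.card_zpowers, hi]⟩
    obtain ⟨T, hT⟩ := hp.exists_le_sylow
    obtain ⟨g, hg⟩ := MulAction.exists_smul_eq G T s.S
    have hgx : g * x * g⁻¹ ∈ (s.S : Subgroup G) := by
      rw [← hg, Sylow.coe_subgroup_smul, ← Grp.map_conj_eq_smul]
      exact ⟨x, hT (mem_zpowers x), rfl⟩
    rw [hSA] at hgx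
    have h1 := s.sq hgx
    exact conj_eq_one_iff.1 (show g * (x * x) * g⁻¹ = 1 by rw [← h1]; group)
  let T : Sylow 2 C := s.S.subtype (hSA ▸ hAC)
  have hT : (T : Subgroup C) = s.A.subgroupOf C := by
    show (s.S : Subgroup G).subgroupOf C = _
    rw [hSA]
  -- the component and its central quotient
  have hq : IsQuasisimple K := hK.1.2
  haveI := hq.2
  let L := ↥K ⧸ center ↥K
  have hLna : ¬ IsMulCommutative L := fun hc => Grp.IsQuasisimple.not_isSolvable hq <| by
    haveI : Group.IsSolvable L := Group.isSolvable_of_comm fun a b => hc.is_comm.comm a b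
    haveI : Group.IsSolvable (center ↥K) :=
      Group.isSolvable_of_comm fun a b => Subtype.ext (mem_center_iff.1 b.2 a)
    exact (Group.isSolvable_iff_subgroup_quotient (center ↥K)).2 ⟨inferInstance, inferInstance⟩
  set H : Subgroup C := K.comap (Gold.proj t) with hH
  let f : H →* L := (QuotientGroup.mk' (center ↥K)).comp ((Gold.proj t).subgroupComap K)
  have hf : Function.Surjective f := (QuotientGroup.mk'_surjective _).comp
    (MonoidHom.subgroupComap_surjective_of_surjective _ _ (QuotientGroup.mk'_surjective _))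
  have hfone : ∀ x : H, f x = 1 → Gold.proj t (x : C) ∈ centralizer (K : Set (Gold.Cq t)) := fun x hx => by
    have hz : (Gold.proj t).subgroupComap K x ∈ center ↥K := (QuotientGroup.eq_one_iff _).1 hx
    exact mem_centralizer_iff.2 fun y hy => congrArg Subtype.val (mem_center_iff.1 hz ⟨y, hy⟩)
  -- the factor
  obtain ⟨E, hEK, hdisj, hsup, htr⟩ := Gold.factor s ht ht1 hK
  rw [hd] at hdisj hsup htr
  have hEA : E ≤ s.A := hEK.trans (Gold.ePart_le _ _ _)
  have hE4 : Nat.card E = 4 := by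
    have h1 := Grp.card_sup_mul_card_inf (H := zpowers t) (N := E) ((zpowers_le.2 ht).trans fun x hx =>
      mem_normalizer_fintype fun e he => by rwa [s.comm hx (hEA he), mul_inv_cancel_right])
    rw [hsup, inf_comm, hdisj, Subgroup.card_bot, h8, Nat.card_zpowers, hord] at h1
    omega
  have hEH : ∀ e (he : e ∈ E), (⟨e, hAC (hEA he)⟩ : C) ∈ H := fun e he =>
    (Gold.mem_ePart_iff s ht ht1 (hEA he)).1 (hEK he)
  have hL4 : 4 ∣ Nat.card L := by
    let φ : E →* L := f.comp
      { toFun := fun e => ⟨⟨e, hAC (hEA e.2)⟩, hEH e e.2⟩, map_one' := rfl, map_mul' := fun _ _ => rfl }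
    refine hE4 ▸ Subgroup.card_dvd_of_injective φ ((injective_iff_map_eq_one φ).2 fun e he => ?_)
    have hz : (e : G) ∈ E ⊓ zpowers t :=
      ⟨e.2, hd ▸ (Gold.mem_dPart_iff s ht ht1 (hEA e.2)).2 (hfone _ he)⟩
    rw [hdisj] at hz
    exact Subtype.ext (mem_bot.1 hz)
  have hL8 : ¬ 8 ∣ Nat.card L := fun hd8 => h16 <| by
    set z := Gold.proj t ⟨t, hAC ht⟩ with hz
    have hzc : ∀ y, y * z = z * y := fun y => by
      obtain ⟨c, rfl⟩ := QuotientGroup.mk'_surjective _ y
      rw [hz, ← map_mul, ← map_mul]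
      exact congrArg _ (Subtype.ext (mem_centralizer_singleton_iff.1 c.2))
    have hzt : orderOf z = 2 := by
      refine orderOf_eq_prime (by rw [hz, ← map_pow]; exact (congrArg _ (Subtype.ext (s.pow_two_eq ht))).trans (map_one _)) fun h1 => ?_
      have hm : (⟨t, hAC ht⟩ : C) ∈ Cfsg.pPrimeCore 2 ↥C := (QuotientGroup.eq_one_iff _).1 h1
      have hd2 := Subgroup.orderOf_dvd_natCard _ hm
      rw [Subgroup.orderOf_mk, hord] at hd2
      exact Nat.not_even_iff_odd.2 (Nat.coprime_two_right.1 Grp.pPrimeCore_coprime) (even_iff_two_dvd.2 hd2)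
    have hK2 : Nat.card K = Nat.card L * Nat.card (center ↥K) := Subgroup.card_eq_card_quotient_mul_card_subgroup _
    have h2L : 2 * Nat.card L ∣ Nat.card (Gold.Cq t) := by
      by_cases hzK : z ∈ K
      · have h2 : 2 ∣ Nat.card (center ↥K) := by
          have h3 := Subgroup.orderOf_dvd_natCard (center ↥K) (x := ⟨z, hzK⟩)
            (mem_center_iff.2 fun y => Subtype.ext (hzc y))
          rwa [Subgroup.orderOf_mk, hzt] at h3
        refine Dvd.dvd.trans ?_ (Subgroup.card_subgroup_dvd_card K)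
        rw [hK2, mul_comm 2]
        exact mul_dvd_mul_left _ h2
      · have h1 := Grp.card_sup_mul_card_inf (H := zpowers z) (N := K) (zpowers_le.2
          (mem_normalizer_fintype fun y hy => by rwa [← hzc y, mul_inv_cancel_right]))
        have hbot : zpowers z ⊓ K = ⊥ := eq_bot_iff.2 fun y ⟨hy, hyK⟩ => by
          obtain ⟨i, rfl⟩ := mem_zpowers_iff.1 hy
          rw [mem_bot, ← zpow_mod_orderOf, hzt]
          rcases Int.emod_two_eq i with e | e
          · rw [show i % ((2 : ℕ) : ℤ) = 0 from e, zpow_zero]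
          · refine absurd ?_ hzK
            rw [← zpow_mod_orderOf, hzt, show i % ((2 : ℕ) : ℤ) = 1 from e, zpow_one] at hyK
            exact hyK
        rw [hbot, Subgroup.card_bot, mul_one, Nat.card_zpowers, hzt] at h1
        refine Dvd.dvd.trans ?_ (Subgroup.card_subgroup_dvd_card (zpowers z ⊔ K))
        rw [h1, hK2]
        exact mul_dvd_mul_left 2 (dvd_mul_right _ _)
    exact (mul_dvd_mul_left 2 hd8).trans (h2L.trans ((Subgroup.card_quotient_dvd_card _).trans
      (Subgroup.card_subgroup_dvd_card C)))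
  -- the element
  obtain ⟨SL, hSL⟩ : ∃ SL : Sylow 2 L, IsMulCommutative (SL : Subgroup L) := by
    obtain ⟨SH⟩ : Nonempty (Sylow 2 H) := inferInstance
    haveI hc : IsMulCommutative (SH : Subgroup H) := ⟨⟨fun a b => by
      have h1 := congrArg Subtype.val ((Invol.GW.pGroup_comm habel
        ((SH.isPGroup'.map H.subtype).map C.subtype)).is_comm.comm
        ⟨_, ⟨_, ⟨_, a.2, rfl⟩, rfl⟩⟩ ⟨_, ⟨_, ⟨_, b.2, rfl⟩, rfl⟩⟩)
      exact Subtype.ext (Subtype.ext (Subtype.ext h1))⟩⟩
    exact ⟨_, Invol.GW.mapSurjective_comm hc hf⟩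
  obtain ⟨l, w₀, -, hw₀, hwl, hlodd⟩ := realOdd_small hLna SL hSL hL8
  have hlo : Odd (orderOf l) := hlodd.of_dvd_nat
    (Subgroup.orderOf_dvd_natCard _ (mem_centralizer_singleton_iff.2 rfl))
  obtain ⟨w, hw, hfw⟩ : ∃ w : H, w * w = 1 ∧ f w = w₀ := by
    obtain ⟨y, hy⟩ := hf w₀
    obtain ⟨a, r, hr, hyr⟩ := Nat.exists_eq_two_pow_mul_odd (orderOf_pos y).ne'
    refine ⟨y ^ r, Subtype.ext (Subtype.ext (hsq (((y ^ r : H) : C) : G) ⟨a, ?_⟩)), ?_⟩
    · simp only [SubmonoidClass.coe_pow]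
      rw [← pow_mul, mul_comm, ← hyr]
      exact_mod_cast congrArg (fun z : H => ((z : C) : G)) (pow_orderOf_eq_one y)
    · obtain ⟨j, rfl⟩ := hr
      rw [map_pow, hy, pow_succ, pow_mul, sq, hw₀, one_pow, one_mul]
  obtain ⟨x, hxo, hxinv, hfx⟩ := lift_inverted f hf hw hlo (hfw ▸ hwl)
  set u : G := ((x : C) : G) with hu_def
  have hu : Odd (orderOf u) := by rwa [hu_def, Subgroup.orderOf_coe, Subgroup.orderOf_coe]
  -- the 2-part of the centralizer
  have h4 : ¬ 4 ∣ Nat.card (centralizer ({u} : Set G)) := fun hd4 => by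
    have htu : t ∈ centralizer ({u} : Set G) :=
      mem_centralizer_singleton_iff.2 (mem_centralizer_singleton_iff.1 (x : C).2).symm
    obtain ⟨W₁, hW₁⟩ := (IsPGroup.iff_card.2 ⟨1, by rw [Nat.card_zpowers, Subgroup.orderOf_mk, hord, pow_one]⟩ :
      IsPGroup 2 (zpowers (⟨t, htu⟩ : centralizer ({u} : Set G)))).exists_le_sylow
    set W₀ := (W₁ : Subgroup (centralizer ({u} : Set G))).map (centralizer ({u} : Set G)).subtype with hW₀
    have hW₀p : IsPGroup 2 W₀ := W₁.isPGroup'.map _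
    have hW₀C : W₀ ≤ C := fun y hy => mem_centralizer_singleton_iff.2
      (congrArg Subtype.val ((Invol.GW.pGroup_comm habel hW₀p).is_comm.comm ⟨y, hy⟩
        ⟨t, ⟨_, hW₁ (mem_zpowers _), rfl⟩⟩))
    set W := W₀.subgroupOf C with hW
    have hWp : IsPGroup 2 W := hW₀p.comap_subtype
    have hWcard : 4 ∣ Nat.card W := by
      rw [Nat.card_congr (subgroupOfEquivOfLe hW₀C).toEquiv, hW₀,
        Subgroup.card_map_of_injective (centralizer ({u} : Set G)).subtype_injective]
      exact W₁.pow_dvd_card_of_pow_dvd_card (n := 2) hd4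
    have hnorm : W ≤ normalizer (H : Set C) := fun y hy => by
      have hzp : IsPGroup 2 (zpowers y) := hWp.to_le (zpowers_le.2 hy)
      obtain ⟨T', hT'⟩ := hzp.exists_le_sylow
      obtain ⟨c, hc⟩ := MulAction.exists_smul_eq C T' T
      have hcy : c * y * c⁻¹ ∈ (T : Subgroup C) := by
        rw [← hc, Sylow.coe_subgroup_smul, ← Grp.map_conj_eq_smul]
        exact ⟨y, hT' (mem_zpowers y), rfl⟩
      rw [hT] at hcy
      have hK' := Grp.IsComponent.map_iso (MulAut.conj (Gold.proj t c)) hK.1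
      have hn := Gold.local_normalizes (Gold.localHyp s ht ht1) hK'
        (show Gold.proj t (c * y * c⁻¹) ∈ Gold.imA s.A t from ⟨_, hcy, rfl⟩)
      refine mem_normalizer_fintype fun v hv => ?_
      have hv' : Gold.proj t v ∈ K := hv
      obtain ⟨v', hv'K, hv'e⟩ := (mem_normalizer_iff.1 hn (Gold.proj t c * Gold.proj t v * (Gold.proj t c)⁻¹)).1
        ⟨_, hv', rfl⟩
      show Gold.proj t (y * v * y⁻¹) ∈ K
      suffices e : Gold.proj t (y * v * y⁻¹) = v' by exact e ▸ hv'K
      refine (MulAut.conj (Gold.proj t c)).injective (Eq.trans ?_ hv'e.symm)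
      simp only [MulAut.conj_apply, map_mul, map_inv]
    have hinf : W.subgroupOf H ≤ f.ker := fun y hy => by
      have hcomm : f y ∈ centralizer ({l} : Set L) := by
        rw [mem_centralizer_singleton_iff, ← hfx, ← map_mul, ← map_mul]
        refine congrArg f (Subtype.ext (Subtype.ext ?_))
        obtain ⟨⟨y', hy'⟩, -, e⟩ := (hy : ((y : C) : G) ∈ W₀)
        have e' : y' = ((y : C) : G) := e
        have h5 := mem_centralizer_singleton_iff.1 hy'
        rw [e'] at h5
        exact h5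
      obtain ⟨j, hj⟩ := hW₀p.exists_orderOf_eq_pow ⟨((y : C) : G), hy⟩
      rw [← Subgroup.orderOf_coe] at hj
      change orderOf ((y : C) : G) = _ at hj
      rw [Subgroup.orderOf_coe, Subgroup.orderOf_coe] at hj
      have hd1 : orderOf (f y) ∣ 2 ^ j := hj ▸ orderOf_map_dvd f y
      have hd2 := Subgroup.orderOf_dvd_natCard _ hcomm
      exact orderOf_eq_one_iff.1 (Nat.eq_one_of_dvd_coprimes
        ((Nat.coprime_two_left.2 hlodd).pow_left j) hd1 hd2)
    have h1 := Grp.card_sup_mul_card_inf hnorm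
    have hker : Nat.card H = Nat.card f.ker * Nat.card L := by
      rw [← f.ker.card_mul_index, Subgroup.index_ker, MonoidHom.range_eq_top.2 hf, Subgroup.card_top]
    obtain ⟨m, hm⟩ : Nat.card ↥(W ⊓ H) ∣ Nat.card f.ker := by
      refine Dvd.dvd.trans (dvd_of_eq ?_) (Subgroup.card_dvd_of_le hinf)
      rw [← Subgroup.inf_subgroupOf_right, Nat.card_congr (subgroupOfEquivOfLe inf_le_right).toEquiv]
    have hpos : 0 < Nat.card ↥(W ⊓ H) := Nat.card_pos
    have h2 : Nat.card ↥(W ⊔ H) = Nat.card W * m * Nat.card L := by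
      refine Nat.eq_of_mul_eq_mul_right hpos (h1.trans ?_)
      rw [hker, hm]; ring
    refine h16 (Dvd.dvd.trans ?_ ((h2 ▸ Subgroup.card_subgroup_dvd_card (W ⊔ H)).trans
      (Subgroup.card_subgroup_dvd_card C)))
    exact mul_dvd_mul (hWcard.mul_right m) hL4
  -- the quotient of the centralizer
  set t' : C := ⟨t, hAC ht⟩
  have ht' : orderOf t' = 2 := by rw [Subgroup.orderOf_mk, hord]
  have htc : t' ∈ center C := mem_center_iff.2 fun g => Subtype.ext (mem_centralizer_singleton_iff.1 g.2)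
  haveI : (zpowers t').Normal := ⟨fun n hn g => by
    rw [mem_center_iff.1 (zpowers_le.2 htc hn) g, mul_inv_cancel_right]; exact hn⟩
  let π := QuotientGroup.mk' (zpowers t')
  let P : Sylow 2 (C ⧸ zpowers t') := T.mapSurjective (QuotientGroup.mk'_surjective (zpowers t'))
  have hPmap : (P : Subgroup (C ⧸ zpowers t')) = (E.subgroupOf C).map π := by
    show (T : Subgroup C).map π = _
    have hz : zpowers t' = (zpowers t).subgroupOf C := by
      refine map_injective C.subtype_injective ?_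
      rw [MonoidHom.map_zpowers, subgroupOf_map_subtype, inf_eq_left.2 (zpowers_le.2 (hAC ht))]
      rfl
    rw [hT, ← hsup, subgroupOf_sup (zpowers_le.2 (hAC ht)) (hEA.trans hAC), ← hz, Subgroup.map_sup,
      (Subgroup.map_eq_bot_iff _).2 (QuotientGroup.ker_mk' _).ge, bot_sup_eq]
  have hPinj : Function.Injective (π.comp (E.subgroupOf C).subtype) := (injective_iff_map_eq_one _).2 fun e he => by
    have hm : (e : C) ∈ zpowers t' := (QuotientGroup.eq_one_iff _).1 he
    obtain ⟨i, hi⟩ := mem_zpowers_iff.1 hm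
    have hz : ((e : C) : G) ∈ E ⊓ zpowers t := ⟨e.2, ⟨i, by rw [← hi]; rfl⟩⟩
    rw [hdisj] at hz
    exact Subtype.ext (Subtype.ext (mem_bot.1 hz))
  have hP4 : Nat.card (P : Subgroup (C ⧸ zpowers t')) = 4 := by
    rw [hPmap, show (E.subgroupOf C).map π = (π.comp (E.subgroupOf C).subtype).range by
      rw [MonoidHom.range_comp, Subgroup.range_subtype],
      ← Nat.card_congr (MonoidHom.ofInjective hPinj).toEquiv,
      Nat.card_congr (subgroupOfEquivOfLe (hEA.trans hAC)).toEquiv, hE4]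
  have hP : IsKleinFour (P : Subgroup (C ⧸ zpowers t')) := by
    refine ⟨hP4, Nat.dvd_antisymm (Monoid.exponent_dvd_of_forall_pow_eq_one fun q => ?_) ?_⟩
    · obtain ⟨e, he, heq⟩ : (q : C ⧸ zpowers t') ∈ (E.subgroupOf C).map π := hPmap ▸ q.2
      refine Subtype.ext ?_
      rw [SubmonoidClass.coe_pow, ← heq, ← map_pow, show e ^ 2 = 1 from Subtype.ext (s.pow_two_eq (hEA he)), map_one]
      rfl
    · haveI : Nontrivial (P : Subgroup (C ⧸ zpowers t')) := Finite.one_lt_card_iff_nontrivial.1 (by omega)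
      obtain ⟨q, hq1⟩ := exists_ne (1 : (P : Subgroup (C ⧸ zpowers t')))
      obtain ⟨e, he, heq⟩ : (q : C ⧸ zpowers t') ∈ (E.subgroupOf C).map π := hPmap ▸ q.2
      refine dvd_trans (dvd_of_eq (orderOf_eq_prime (p := 2) ?_ hq1).symm) (Monoid.order_dvd_exponent q)
      refine Subtype.ext ?_
      rw [SubmonoidClass.coe_pow, ← heq, ← map_pow, show e ^ 2 = 1 from Subtype.ext (s.pow_two_eq (hEA he)), map_one]
      rfl
  have hone : ∀ q q' : C ⧸ zpowers t', orderOf q = 2 → orderOf q' = 2 → IsConj q q' := by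
    have key : ∀ q : C ⧸ zpowers t', orderOf q = 2 → ∃ e : C, (e : G) ∈ E ∧ (e : G) ≠ 1 ∧ IsConj q (π e) := by
      intro q hq
      obtain ⟨P', hP'⟩ := (IsPGroup.iff_card.2 ⟨1, by rw [Nat.card_zpowers, hq, pow_one]⟩ :
        IsPGroup 2 (zpowers q)).exists_le_sylow
      obtain ⟨c, hc⟩ := MulAction.exists_smul_eq (C ⧸ zpowers t') P' P
      have hcq : c * q * c⁻¹ ∈ (E.subgroupOf C).map π := by
        rw [← hPmap, ← hc, Sylow.coe_subgroup_smul, ← Grp.map_conj_eq_smul]
        exact ⟨q, hP' (mem_zpowers q), rfl⟩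
      obtain ⟨e, he, heq⟩ := hcq
      refine ⟨e, he, fun e1 => ?_, isConj_iff.2 ⟨c, heq.symm⟩⟩
      rw [show e = 1 from Subtype.ext e1, map_one, eq_comm, conj_eq_one_iff] at heq
      rw [heq, orderOf_one] at hq
      omega
    intro q q' hq hq'
    obtain ⟨e, he, he1, hqe⟩ := key q hq
    obtain ⟨e', he', he1', hqe'⟩ := key q' hq'
    obtain ⟨g, -, hgd, -, hg⟩ := htr e he e' he' he1 he1'
    have hgC : g ∈ C := mem_centralizer_singleton_iff.2 (mul_inv_eq_iff_eq_mul.1 (hgd t (mem_zpowers t)))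
    refine hqe.trans (IsConj.trans (isConj_iff.2 ⟨π ⟨g, hgC⟩, ?_⟩) hqe'.symm)
    rw [← map_inv, ← map_mul, ← map_mul]
    exact congrArg π (Subtype.ext hg)
  have hxinv' : (w : C) * (x : C) * (w : C)⁻¹ = (x : C)⁻¹ := by
    exact_mod_cast congrArg (fun z : H => (z : C)) hxinv
  refine h.exists_even_fixed_half hM hord hu (x : C).2 (w : C).2
    (congrArg Subtype.val hxinv') h4
    (half_column hM ht' htc P hP hone (y := (x : C)) (by rwa [Subgroup.orderOf_coe])
      (isConj_iff.2 ⟨_, hxinv'⟩))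

/-- A simple group with abelian Sylow 2-subgroups has a fixed character of even degree. -/
theorem exists_even_fixed_abelian [IsSimpleGroup G] (hna : ¬ IsMulCommutative G) (S : Sylow 2 G)
    (hS : IsMulCommutative (S : Subgroup G))
    (hall : ∀ (L : Type u) [Group L] [Finite L], IsSimpleGroup L → ¬ IsMulCommutative L → Gold.Conclusion L)
    (hdich : ∀ s : Gold.Setup G, 8 ≤ Nat.card s.A → (∃ H : Subgroup G, Cfsg.IsStronglyEmbedded H) ∨
      (Nat.card s.A = 8 ∧ ∀ v ∈ s.A, v ≠ 1 → ∃ K, Gold.Moved s.A v K ∧ Gold.dPart s.A v K = zpowers v))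
    {k : ℕ} (h : Exps G k) {M : Ideal AlgInt} (hM : IsPModular 2 M) :
    ∃ χ : IrrCharacter G, Even (charDegree (χ : G → ℂ)) ∧ h.sig χ = χ := by
  haveI : Fact (Nat.Prime 2) := ⟨Nat.prime_two⟩
  have hodd : RealOdd G → ∃ χ : IrrCharacter G, Even (charDegree (χ : G → ℂ)) ∧ h.sig χ = χ :=
    fun ⟨l, w, hl, _, hwl, hc⟩ => h.exists_even_fixed hl (isConj_iff.2 ⟨w, hwl⟩) hc
  have hcomm : ∀ {a b : G}, a ∈ (S : Subgroup G) → b ∈ (S : Subgroup G) → a * b = b * a := fun {a b} ha hb =>
    congrArg Subtype.val (hS.is_comm.comm ⟨a, ha⟩ ⟨b, hb⟩)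
  let A : Subgroup G :=
    { carrier := {x | x ∈ (S : Subgroup G) ∧ x * x = 1}
      one_mem' := ⟨one_mem _, one_mul 1⟩
      mul_mem' := fun {a b} ha hb => ⟨mul_mem ha.1 hb.1, by
        rw [mul_assoc, ← mul_assoc b a b, ← hcomm ha.1 hb.1, mul_assoc a b b, hb.2, mul_one, ha.2]⟩
      inv_mem' := fun {a} ha => ⟨inv_mem ha.1, by rw [← mul_inv_rev, ha.2, inv_one]⟩ }
  have hA : Cfsg.IsElementaryAbelian 2 A :=
    ⟨⟨⟨fun a b => Subtype.ext (hcomm a.2.1 b.2.1)⟩⟩, fun a ha => by rw [sq]; exact ha.2⟩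
  have hsc : Cfsg.IsStronglyClosed A (S : Subgroup G) :=
    ⟨fun a ha => ha.1, fun x hx g hg => ⟨hg, by rw [conj_mul, hx.2, mul_one, mul_inv_cancel]⟩⟩
  have h2 : 2 ∣ Nat.card G := even_iff_two_dvd.1 (Nat.not_odd_iff_even.1 fun ho =>
    hna ⟨⟨IsSimpleGroup.comm_iff_isSolvable.2 (Cfsg.Agent.S0205.result ho)⟩⟩)
  have hne : A ≠ ⊥ := fun e => by
    obtain ⟨a, ha⟩ := exists_prime_orderOf_dvd_card' (G := (S : Subgroup G)) 2
      (S.dvd_card_of_dvd_card h2)
    have h22 := pow_orderOf_eq_one a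
    rw [ha, sq] at h22
    have haA : (a : G) ∈ A := ⟨a.2, congrArg Subtype.val h22⟩
    rw [e, mem_bot] at haA
    rw [← Subgroup.orderOf_coe, haA, orderOf_one] at ha
    omega
  obtain ⟨hor, -, -, htr⟩ := hall G inferInstance hna S A hne hA hsc
  rcases hor with hSA | ⟨H, hH⟩
  swap
  · exact hodd (realOdd_of_se hH)
  let s : Gold.Setup G :=
    { S := S, A := A, simple := inferInstance, nonab := hna, ne_bot := hne, elem := hA, closed := hsc
      irred := fun B hB hinv => by
        refine or_iff_not_imp_left.2 fun hB1 => le_antisymm hB fun a ha => ?_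
        by_cases ha1 : a = 1
        · exact ha1 ▸ one_mem B
        obtain ⟨⟨b, hb⟩, hb1⟩ := B.ne_bot_iff_exists_ne_one.1 hB1
        obtain ⟨g, hg, hgb⟩ := htr b (hB hb) a ha (fun e => hb1 (Subtype.ext e)) ha1
        exact hgb ▸ hinv g hg b hb
      ih := fun L _ _ _ hs hn => hall L hs hn }
  have h4 : 4 ≤ Nat.card A := s.four_le
  by_cases h8 : 8 ≤ Nat.card A
  · rcases hdich s h8 with ⟨H, hH⟩ | ⟨h88, hfac⟩
    · exact hodd (realOdd_of_se hH)
    · obtain ⟨⟨t, ht⟩, ht1⟩ := A.ne_bot_iff_exists_ne_one.1 hne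
      have ht1' : t ≠ 1 := fun e => ht1 (Subtype.ext e)
      obtain ⟨K, hK, hd⟩ := hfac t ht ht1'
      exact exists_even_fixed_eight h hM s hSA h88 ht ht1' hK hd
  · refine hodd (realOdd_small hna S hS fun hd8 => h8 ?_)
    have := S.pow_dvd_card_of_pow_dvd_card (n := 3) hd8
    rw [hSA] at this
    exact Nat.le_of_dvd Nat.card_pos this

end Cfsg.Agent.Block.SigmaFixed
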